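import Mathlib

/-!
O'Nan's theorem on trivial-intersection normal subgroups of a point stabiliser in a doubly transitive
group: the basic facts. For two points `x, y` write `S x y = K x ⊓ G_y`. The points fixed by `S x y`
are the points fixed by `S y x`, so they form the lines of a linear space.
-/

set_option autoImplicit false
set_option linter.unusedSectionVars false
set_option linter.style.haveILetI false

namespace Cfsg.Agent.ONanTI

/-- An equivariant family of non-semiregular trivial intersection subgroups of the point stabilisers. -/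
structure Setting (G X : Type*) [Group G] [MulAction G X] where
  K : X → Subgroup G
  le : ∀ x, ∀ n ∈ K x, n • x = x
  conj : ∀ (g : G) (x : X), ∀ n ∈ K x, g * n * g⁻¹ ∈ K (g • x)
  ti : ∀ x y, x ≠ y → ∀ n ∈ K x, n ∈ K y → n = 1
  nsr : ∀ x y, x ≠ y → ∃ n ∈ K x, n ≠ 1 ∧ n • y = y
  two : ∀ x y x' y' : X, x ≠ y → x' ≠ y' → ∃ g : G, g • x = x' ∧ g • y = y'

variable {G X : Type*} [Group G] [Finite G] [MulAction G X] [FaithfulSMul G X] [Finite X]

namespace Setting

variable (T : Setting G X)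

/-- `K x ⊓ G_y`. -/
def S (x y : X) : Subgroup G := T.K x ⊓ MulAction.stabilizer G y

theorem mem_S {x y : X} {n : G} : n ∈ T.S x y ↔ n ∈ T.K x ∧ n • y = y := Iff.rfl

theorem conj_iff (g : G) (x : X) (n : G) : g * n * g⁻¹ ∈ T.K (g • x) ↔ n ∈ T.K x := by
  refine ⟨fun h => ?_, T.conj g x n⟩
  have := T.conj g⁻¹ _ _ h
  rw [inv_smul_smul] at this
  simpa [mul_assoc] using this

theorem conj_mem_of_fixed {g n : G} {x : X} (hg : g • x = x) (hn : n ∈ T.K x) :
    g * n * g⁻¹ ∈ T.K x := hg ▸ T.conj g x n hn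

theorem conj_mem_S {g n : G} {x y : X} (hn : n ∈ T.S x y) :
    g * n * g⁻¹ ∈ T.S (g • x) (g • y) := by
  refine ⟨T.conj g x n hn.1, ?_⟩
  show (g * n * g⁻¹) • g • y = g • y
  rw [mul_smul, mul_smul, inv_smul_smul, hn.2]

theorem conj_mem_S_of_fixed {g n : G} {x y : X} (hx : g • x = x) (hy : g • y = y) (hn : n ∈ T.S x y) :
    g * n * g⁻¹ ∈ T.S x y := by simpa only [hx, hy] using T.conj_mem_S (g := g) hn

theorem card_K_smul (g : G) (x : X) : Nat.card ↥(T.K x) = Nat.card ↥(T.K (g • x)) :=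
  Nat.card_congr
    { toFun := fun n => ⟨g * n * g⁻¹, T.conj g x n n.2⟩
      invFun := fun n => ⟨g⁻¹ * n * g, by simpa using T.conj g⁻¹ _ n n.2⟩
      left_inv := fun n => Subtype.ext (by simp [mul_assoc])
      right_inv := fun n => Subtype.ext (by simp [mul_assoc]) }

theorem card_S_smul (g : G) (x y : X) :
    Nat.card ↥(T.S x y) = Nat.card ↥(T.S (g • x) (g • y)) :=
  Nat.card_congr
    { toFun := fun n => ⟨g * n * g⁻¹, T.conj_mem_S n.2⟩
      invFun := fun n => ⟨g⁻¹ * n * g, by simpa using T.conj_mem_S (g := g⁻¹) n.2⟩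
      left_inv := fun n => Subtype.ext (by simp [mul_assoc])
      right_inv := fun n => Subtype.ext (by simp [mul_assoc]) }

theorem card_S_eq {x y x' y' : X} (h : x ≠ y) (h' : x' ≠ y') :
    Nat.card ↥(T.S x y) = Nat.card ↥(T.S x' y') := by
  obtain ⟨g, rfl, rfl⟩ := T.two x y x' y' h h'
  exact T.card_S_smul g x y

theorem commute {x y : X} (h : x ≠ y) {s t : G} (hs : s ∈ T.S x y) (ht : t ∈ T.S y x) :
    s * t = t * s := by
  have h1 : s * t * s⁻¹ * t⁻¹ ∈ T.K x := by
    have := mul_mem hs.1 (T.conj_mem_of_fixed ht.2 (inv_mem hs.1))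
    simpa [mul_assoc] using this
  have h2 : s * t * s⁻¹ * t⁻¹ ∈ T.K y := mul_mem (T.conj_mem_of_fixed hs.2 ht.1) (inv_mem ht.1)
  have := T.ti x y h _ h1 h2
  calc s * t = (s * t * s⁻¹ * t⁻¹) * (t * s) := by group
    _ = t * s := by rw [this, one_mul]

/-- An element commuting with a nontrivial element of `K y` fixes `y`. -/
theorem fixed_of_commute {y : X} {n t : G} (ht : t ∈ T.K y) (h1 : t ≠ 1) (h : n * t = t * n) :
    n • y = y := by
  by_contra hne
  refine h1 (T.ti y (n • y) (Ne.symm hne) t ht ?_)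
  have := T.conj n y t ht
  rwa [h, mul_inv_cancel_right] at this

theorem fixed_of_conj_eq {y : X} {n t : G} (ht : t ∈ T.K y) (h1 : t ≠ 1) (h : n * t * n⁻¹ = t) :
    n • y = y := T.fixed_of_commute ht h1 (mul_inv_eq_iff_eq_mul.1 h)

theorem S_ne_bot {x y : X} (h : x ≠ y) : ∃ s ∈ T.S x y, s ≠ 1 := by
  obtain ⟨n, hn, h1, hy⟩ := T.nsr x y h
  exact ⟨n, ⟨hn, hy⟩, h1⟩

end Setting

/-- The cosets of a subgroup `C` of `V` centralised by `A`, with `A` normalising `V`: if `C` has index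
divisible by a prime and `A` is a Sylow subgroup for it, some element outside `C` has its `A`-conjugates
in its coset. -/
theorem exists_fixed_coset {p : ℕ} [Fact p.Prime] (V C A : Subgroup G) (hA : IsPGroup p ↥A)
    (hnorm : ∀ a ∈ A, ∀ v ∈ V, a * v * a⁻¹ ∈ V)
    (hcent : ∀ a ∈ A, ∀ c ∈ C, a * c * a⁻¹ = c) (hp : p ∣ (C.subgroupOf V).index) :
    ∃ v ∈ V, v ∉ C ∧ ∀ a ∈ A, v⁻¹ * (a * v * a⁻¹) ∈ C := by
  classical
  set Q := ↥V ⧸ C.subgroupOf V with hQ
  let f : ↥A → Q → Q := fun a => Quotient.map' (fun v : ↥V => ⟨a * v * a⁻¹, hnorm a a.2 v v.2⟩)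
    (fun v w h => by
      rw [QuotientGroup.leftRel_apply, Subgroup.mem_subgroupOf] at h ⊢
      have e := hcent a a.2 _ h
      simp only [Subgroup.coe_mul, Subgroup.coe_inv] at e h ⊢
      rw [show ((a : G) * v * (a : G)⁻¹)⁻¹ * (a * w * (a : G)⁻¹) = a * ((v : G)⁻¹ * w) * (a : G)⁻¹ by
        group, e]
      exact h)
  have hf : ∀ (a : ↥A) (v : ↥V), f a (v : Q) = ((⟨a * v * (a : G)⁻¹, hnorm a a.2 v v.2⟩ : ↥V) : Q) :=
    fun a v => rfl
  letI : MulAction ↥A Q :=
    { smul := f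
      one_smul := fun q => by
        induction q using QuotientGroup.induction_on with
        | _ v => show f 1 v = v; rw [hf]; congr 1; ext; simp
      mul_smul := fun a b q => by
        induction q using QuotientGroup.induction_on with
        | _ v => show f (a * b) v = f a (f b v); rw [hf, hf, hf]; congr 1; ext; simp [mul_assoc] }
  have h1 : ((1 : ↥V) : Q) ∈ MulAction.fixedPoints ↥A Q := fun a => by
    show f a _ = _
    rw [hf]; congr 1; ext; simp
  obtain ⟨b, hb, hne⟩ := hA.exists_fixed_point_of_prime_dvd_card_of_fixed_point Q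
    (by rwa [← Subgroup.index_eq_card]) h1
  induction b using QuotientGroup.induction_on with
  | _ v =>
    refine ⟨v, v.2, fun hv => hne (QuotientGroup.eq.2 ?_), fun a ha => ?_⟩
    · rw [Subgroup.mem_subgroupOf]
      simpa using hv
    · have e := hb ⟨a, ha⟩
      rw [show (⟨a, ha⟩ : ↥A) • (v : Q) = f ⟨a, ha⟩ v from rfl, hf] at e
      have e2 := QuotientGroup.eq.1 e.symm
      rw [Subgroup.mem_subgroupOf] at e2
      simpa using e2

namespace Setting

variable (T : Setting G X)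

/-- A point fixed by `S x y` is fixed by `S y x`. -/
theorem fixed_symm {x y z : X} (h : x ≠ y) (hz : ∀ s ∈ T.S x y, s • z = z) {t : G}
    (ht : t ∈ T.S y x) : t • z = z := by
  rcases eq_or_ne z y with rfl | hzy
  · exact T.le _ t ht.1
  suffices hle : T.S y z ≤ T.S y x by
    have e := Subgroup.eq_of_le_of_card_ge hle (T.card_S_eq h.symm hzy.symm).le
    rw [← e] at ht
    exact ht.2
  by_contra hle
  set V := T.S y z
  set C := V ⊓ MulAction.stabilizer G x with hCdef
  have hmem : ∀ {v}, v ∈ C → v ∈ T.S y x := fun hv => ⟨hv.1.1, hv.2⟩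
  have hidx : (C.subgroupOf V).index ≠ 1 := fun e => hle fun v hv => by
    have := (Subgroup.index_eq_one.1 e) ▸ Subgroup.mem_top (⟨v, hv⟩ : ↥V)
    exact hmem (Subgroup.mem_subgroupOf.1 this)
  obtain ⟨p, hp, hpdvd⟩ := Nat.exists_prime_and_dvd hidx
  haveI := Fact.mk hp
  obtain ⟨P⟩ : Nonempty (Sylow p ↥(T.S x y)) := Sylow.nonempty
  set A : Subgroup G := (P : Subgroup ↥(T.S x y)).map (T.S x y).subtype
  have hAS : A ≤ T.S x y := Subgroup.map_subtype_le _
  have hnorm : ∀ a ∈ A, ∀ v ∈ V, a * v * a⁻¹ ∈ V := fun a ha v hv =>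
    T.conj_mem_S_of_fixed (hAS ha).2 (hz a (hAS ha)) hv
  have hcent : ∀ a ∈ A, ∀ c ∈ C, a * c * a⁻¹ = c := fun a ha c hc => by
    rw [T.commute h (hAS ha) (hmem hc), mul_inv_cancel_right]
  obtain ⟨v, hv, hvC, hfix⟩ := exists_fixed_coset V C A (P.isPGroup'.map _) hnorm hcent hpdvd
  let φ : ↥A →* ↥C := MonoidHom.mk' (fun a => ⟨v⁻¹ * (a * v * (a : G)⁻¹), hfix a a.2⟩) fun a b => by
    ext
    simp only [Subgroup.coe_mul]
    have e := hcent a a.2 _ (hfix b b.2)
    calc v⁻¹ * ((a : G) * b * v * ((a : G) * b)⁻¹)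
        = v⁻¹ * (a * v * (a : G)⁻¹) * (a * (v⁻¹ * (b * v * (b : G)⁻¹)) * (a : G)⁻¹) := by group
      _ = _ := by rw [e]
  have hφ : Function.Injective φ := by
    rw [injective_iff_map_eq_one]
    intro a ha
    by_contra h1
    have e : (v⁻¹ * ((a : G) * v * (a : G)⁻¹)) = 1 := congrArg Subtype.val ha
    have e2 : v * a = a * v := by
      rw [inv_mul_eq_one] at e
      nth_rw 1 [e]
      group
    exact hvC ⟨hv, T.fixed_of_commute (hAS a.2).1 (fun e' => h1 (Subtype.ext e')) e2⟩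
  have hdvd := Subgroup.card_dvd_of_injective φ hφ
  have hcA : Nat.card ↥A = p ^ (Nat.card ↥(T.S x y)).factorization p := by
    rw [← P.card_eq_multiplicity]
    exact (Nat.card_congr ((P : Subgroup ↥(T.S x y)).equivMapOfInjective _
      (T.S x y).subtype_injective).toEquiv).symm
  have hcV : Nat.card ↥C * (C.subgroupOf V).index = Nat.card ↥V := by
    rw [← Nat.card_congr (Subgroup.subgroupOfEquivOfLe (inf_le_left : C ≤ V)).toEquiv]
    exact Subgroup.card_mul_index _
  have hsucc : p ^ ((Nat.card ↥(T.S x y)).factorization p + 1) ∣ Nat.card ↥(T.S x y) := by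
    conv_rhs => rw [T.card_S_eq h hzy.symm, ← hcV]
    rw [pow_succ, ← hcA]
    exact mul_dvd_mul hdvd hpdvd
  exact Nat.pow_succ_factorization_not_dvd (Nat.card_pos).ne' hp hsucc

/-- The points fixed by `S x y`. -/
def U (x y : X) : Set X := {z | ∀ s ∈ T.S x y, s • z = z}

theorem U_comm {x y : X} (h : x ≠ y) : T.U x y = T.U y x :=
  Set.Subset.antisymm (fun _ hz _ ht => T.fixed_symm h hz ht)
    fun _ hz _ ht => T.fixed_symm h.symm hz ht

theorem left_mem_U (x y : X) : x ∈ T.U x y := fun s hs => T.le x s hs.1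

theorem right_mem_U (x y : X) : y ∈ T.U x y := fun _ hs => hs.2

theorem S_eq_of_mem_U {x y z : X} (h : x ≠ y) (hz : z ∈ T.U x y) (hxz : x ≠ z) :
    T.S x z = T.S x y := by
  have hle : T.S x y ≤ T.S x z := fun s hs => ⟨hs.1, hz s hs⟩
  exact (Subgroup.eq_of_le_of_card_ge hle (T.card_S_eq hxz h).le).symm

theorem U_eq_of_mem {x y a b : X} (h : x ≠ y) (ha : a ∈ T.U x y) (hb : b ∈ T.U x y) (hab : a ≠ b) :
    T.U a b = T.U x y := by
  have key : ∀ {x y z : X}, x ≠ y → z ∈ T.U x y → x ≠ z → T.U x z = T.U x y :=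
    fun h hz hxz => by
      rw [U, U, T.S_eq_of_mem_U h hz hxz]
  rcases eq_or_ne x a with rfl | hxa
  · exact key h hb hab
  have e : T.U a x = T.U x y := by rw [T.U_comm hxa.symm, key h ha hxa]
  rw [key hxa.symm (e ▸ hb) hab, e]

theorem U_eq_of_le {x y z : X} (h : x ≠ y) (hz : z ∈ T.U x y) (hxz : x ≠ z) : T.U x z = T.U x y :=
  T.U_eq_of_mem h (T.left_mem_U x y) hz hxz

theorem smul_mem_U {g : G} {x y z : X} (hz : z ∈ T.U x y) : g • z ∈ T.U (g • x) (g • y) := by
  intro s hs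
  have h1 : g⁻¹ * s * g ∈ T.S x y := by simpa using T.conj_mem_S (g := g⁻¹) hs
  have h2 := hz _ h1
  rw [mul_smul, mul_smul, inv_smul_eq_iff] at h2
  exact h2

theorem U_ne_univ {x y : X} (h : x ≠ y) : ∃ z, z ∉ T.U x y := by
  by_contra hc
  push Not at hc
  obtain ⟨s, hs, h1⟩ := T.S_ne_bot h
  exact h1 (FaithfulSMul.eq_of_smul_eq_smul fun z => by rw [one_smul]; exact hc z s hs)

end Setting

end Cfsg.Agent.ONanTI
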