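import Cfsg.Agent.ONanTI.Top

/-!
The fixed point set of every nontrivial element of `K x` meets every line.
-/

set_option autoImplicit false
set_option linter.unusedSectionVars false
set_option linter.style.haveILetI false

namespace Cfsg.Agent.ONanTI

variable {G X : Type*} [Group G] [Finite G] [MulAction G X] [FaithfulSMul G X] [Finite X]

namespace Setting

variable {T : Setting G X} (hT : T.Flat)
include hT

/-- The points fixed by `S x y` form the line through `x` and `y`. -/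
theorem Flat.U_eq {x y : X} (hxy : x ≠ y) : T.U x y = T.L x y := by
  classical
  refine Set.Subset.antisymm (fun z hz => ?_) (T.L_subset x y)
  by_contra hzL
  obtain ⟨u, hu⟩ := T.U_ne_univ hxy
  have hxu : x ≠ u := fun e => hu (e ▸ T.left_mem_U x y)
  obtain ⟨n, hn, hny⟩ : ∃ n ∈ T.S x u, n ∉ T.S x y := by
    by_contra hc
    push Not at hc
    have e := Subgroup.eq_of_le_of_card_ge (show T.S x u ≤ T.S x y from hc) (T.card_S_eq hxy hxu).le
    exact hu (by simpa only [U, e] using T.right_mem_U x u)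
  obtain ⟨H, hH, hUH⟩ := T.exists_top hxy
  have hx := hUH (T.left_mem_U x y)
  have hy := hUH (T.right_mem_U x y)
  have hzH := hUH hz
  have hyz : y ≠ z := fun e => hzL (e ▸ T.right_mem_L x y)
  have hxL : x ∉ T.L y z := fun hx' => hzL (by
    rw [T.L_eq hyz hx' (T.left_mem_L y z) hxy]
    exact T.right_mem_L y z)
  have hgfix : ∀ p : ↥(T.A H y) × ↥(T.A H z), ∀ h ∈ H, ((p.1 : G) * p.2) • h = h := fun p h hh => by
    rw [mul_smul, (T.mem_A.1 p.2.2).2 h hh, (T.mem_A.1 p.1.2).2 h hh]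
  let F : ↥(T.A H y) × ↥(T.A H z) → ↥(T.A H x) := fun p =>
    ⟨n * ((p.1 : G) * p.2) * n⁻¹ * ((p.1 : G) * p.2)⁻¹, T.mem_A.2 ⟨by
      have := mul_mem hn.1 (T.conj_mem_of_fixed (hgfix p x hx) (inv_mem hn.1))
      simpa [mul_assoc] using this, fun h hh => by
      rw [mul_smul, inv_smul_eq_iff.2 (hgfix p h hh).symm, mul_smul, mul_smul,
        hgfix p _ (hH.smul_mem hT hx hh (inv_mem hn.1)), smul_inv_smul]⟩⟩
  haveI := Fintype.ofFinite (↥(T.A H y) × ↥(T.A H z))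
  haveI := Fintype.ofFinite ↥(T.A H x)
  obtain ⟨p, r, hne, hF⟩ := Fintype.exists_ne_map_eq_of_card_lt F (by
    rw [← Nat.card_eq_fintype_card, ← Nat.card_eq_fintype_card, Nat.card_prod,
      hH.card_A_eq hT hx hxy, hH.card_A_eq hT hy hxy, hH.card_A_eq hT hzH hxy]
    have := T.one_lt_ncard_O hxy
    exact lt_mul_of_one_lt_left (by omega) this)
  obtain ⟨⟨b, hb⟩, ⟨c, hc⟩⟩ := p
  obtain ⟨⟨b', hb'⟩, ⟨c', hc'⟩⟩ := r
  have hF' : n * (b * c) * n⁻¹ * (b * c)⁻¹ = n * (b' * c') * n⁻¹ * (b' * c')⁻¹ := congrArg Subtype.val hF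
  obtain ⟨g, hgdef⟩ : ∃ g, g = (b' * c')⁻¹ * (b * c) := ⟨_, rfl⟩
  have hcomm : n * g * n⁻¹ = g := by
    have e : n * (b * c) * n⁻¹ = n * (b' * c') * n⁻¹ * (b' * c')⁻¹ * (b * c) := by rw [← hF']; group
    rw [hgdef]
    calc n * ((b' * c')⁻¹ * (b * c)) * n⁻¹
        = (n * (b' * c') * n⁻¹)⁻¹ * (n * (b * c) * n⁻¹) := by group
      _ = _ := by rw [e]; group
  have hgsplit : g = (b'⁻¹ * b) * (c'⁻¹ * c) := by
    rw [hgdef, mul_inv_rev]
    calc c'⁻¹ * b'⁻¹ * (b * c) = c'⁻¹ * (b'⁻¹ * b) * c := by group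
      _ = (b'⁻¹ * b) * c'⁻¹ * c := by
          rw [hH.commute_A hT hy hzH hyz (mul_mem (inv_mem hb') hb) (inv_mem hc')]
      _ = _ := by group
  have hg1 : g ≠ 1 := by
    intro e
    rw [hgsplit, mul_eq_one_iff_eq_inv] at e
    have e1 := T.ti y z hyz _ (T.mem_A.1 (mul_mem (inv_mem hb') hb)).1
      (e ▸ inv_mem (T.mem_A.1 (mul_mem (inv_mem hc') hc)).1)
    rw [e1, eq_comm, inv_eq_one, inv_mul_eq_one] at e
    rw [inv_mul_eq_one] at e1
    subst e e1
    exact hne rfl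
  obtain ⟨c₀, hc₀, hgc⟩ := (hH.line hT hy hzH hyz).2 _ (mul_mem (inv_mem hb') hb) _
    (mul_mem (inv_mem hc') hc)
  rw [← hgsplit] at hgc
  have hnc := T.fixed_of_conj_eq (T.mem_A.1 hgc).1 hg1 hcomm
  have hc₀U : c₀ ∈ T.U x y := by
    rw [← T.U_eq_of_mem hxy (T.right_mem_U x y) hz hyz]
    exact T.L_subset _ _ hc₀
  have hxc₀ : x ≠ c₀ := fun e => hxL (e ▸ hc₀)
  exact hny (T.S_eq_of_mem_U hxy hc₀U hxc₀ ▸ ⟨hn.1, hnc⟩)

/-- A commutator of `n ∈ K x` and `t ∈ S y x` has the fixed points of `t`. -/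
theorem Flat.fixed_of_comm_fixed {x y : X} (hxy : x ≠ y) {n t : G} (hn : n ∈ T.K x)
    (ht : t ∈ T.S y x) (hny : n • y ≠ y) {u : X} (hu : (n * t * n⁻¹ * t⁻¹) • u = u) : t • u = u := by
  have hy' : n • y ∈ T.L y x := T.L_comm hxy ▸ hT.orbit_mem_L hxy hn
  obtain ⟨m, hm, hmx⟩ := hT.exists_smul hxy.symm hy' hny
  obtain ⟨c, hc⟩ : ∃ c, c = n * t * n⁻¹ * t⁻¹ := ⟨_, rfl⟩
  rw [← hc] at hu
  have hcK : c ∈ T.K x := by
    have := mul_mem hn (T.conj_mem_of_fixed ht.2 (inv_mem hn))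
    rw [hc]
    simpa [mul_assoc] using this
  have hcy : c • y = y := hc ▸ hT.comm_fixed hn ht.1 ht.2 (T.le y t ht.1)
  have h1 : t⁻¹ * (c⁻¹ * m * c * m⁻¹) ∈ T.K (n • y) := by
    have h2 : c * t ∈ T.K (n • y) := by
      rw [hc, inv_mul_cancel_right]
      exact T.conj n y t ht.1
    have h3 : m * c * m⁻¹ ∈ T.K (n • y) := hmx ▸ T.conj m x c hcK
    have := mul_mem (inv_mem h2) h3
    rw [mul_inv_rev] at this
    simpa [mul_assoc] using this
  have h4 : c⁻¹ * m * c * m⁻¹ ∈ T.K y := by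
    refine mul_mem ?_ (inv_mem hm)
    simpa using T.conj_mem_of_fixed (inv_smul_eq_iff.2 hcy.symm) hm
  have h5 := T.ti y (n • y) (Ne.symm hny) _ (mul_mem (inv_mem ht.1) h4) h1
  rw [inv_mul_eq_one] at h5
  rw [h5, mul_smul, mul_smul, mul_smul]
  rcases eq_or_ne y u with rfl | hyu
  · rw [T.le y _ (inv_mem hm), hcy, T.le y m hm, inv_smul_eq_iff.2 hcy.symm]
  · rw [hT.closed hcK hyu hcy hu (hT.smul_L hyu (inv_mem hm) (T.right_mem_L y u)), smul_inv_smul,
      inv_smul_eq_iff.2 hu.symm]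

/-- `S x z` is transitive on the lines through `x` other than the one through `z`. -/
theorem Flat.exists_S_smul {x y z : X} (hxz : x ≠ z) (hy : y ∉ T.L x z) {w : X} (hw : w ∈ T.O x y) :
    ∃ e ∈ T.S x z, e • y = w := by
  classical
  have hxy : x ≠ y := fun e => hy (e ▸ T.left_mem_L x z)
  obtain ⟨t, ht, hty⟩ : ∃ t ∈ T.S z x, t • y ≠ y := by
    by_contra hc
    push Not at hc
    refine hy ?_
    rw [T.L_comm hxz, ← hT.U_eq hxz.symm]
    exact hc
  have ht1 : t ≠ 1 := fun e => hty (by rw [e, one_smul])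
  have hν : ∀ v : ↥(T.O x z), ∃ n ∈ T.K x, n • z = (v : X) := fun v => v.2
  choose ν hν hνz using hν
  have hS : ∀ v, ν v * t * (ν v)⁻¹ * t⁻¹ ∈ T.S x z := fun v => by
    refine ⟨?_, hT.comm_fixed (hν v) ht.1 ht.2 (T.le z t ht.1)⟩
    have := mul_mem (hν v) (T.conj_mem_of_fixed ht.2 (inv_mem (hν v)))
    simpa [mul_assoc] using this
  have hinj : Function.Injective fun v =>
      (⟨(ν v * t * (ν v)⁻¹ * t⁻¹)⁻¹ • y, _, inv_mem (hS v).1, rfl⟩ : ↥(T.O x y)) := by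
    intro v v' h
    have h' : (ν v * t * (ν v)⁻¹ * t⁻¹)⁻¹ • y = (ν v' * t * (ν v')⁻¹ * t⁻¹)⁻¹ • y :=
      congrArg Subtype.val h
    by_contra hne
    obtain ⟨d, hd⟩ : ∃ d, d = (ν v)⁻¹ * ν v' := ⟨_, rfl⟩
    have hdK : d ∈ T.K x := hd ▸ mul_mem (inv_mem (hν v)) (hν v')
    have hdz : d • z ≠ z := fun e => hne (Subtype.ext (by
      rw [hd, mul_smul, inv_smul_eq_iff, hνz, hνz] at e
      exact e.symm))
    have hfix : (d * t * d⁻¹ * t⁻¹) • (ν v)⁻¹ • y = (ν v)⁻¹ • y := by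
      rw [eq_inv_smul_iff, ← mul_smul, ← mul_smul]
      conv_rhs => rw [← smul_inv_smul (ν v' * t * (ν v')⁻¹ * t⁻¹) y, ← h', ← mul_smul]
      congr 1
      rw [hd]; group
    have htf := hT.fixed_of_comm_fixed hxz hdK ht hdz hfix
    have hxv : x ≠ (ν v)⁻¹ • y := fun e => hxy (MulAction.injective (ν v)⁻¹
      ((T.le x _ (inv_mem (hν v))).trans e))
    refine hty (hT.closed ht.1 hxv ht.2 htf ?_)
    rw [T.L_eq hxy (T.left_mem_L x y) (hT.orbit_mem_L hxy (inv_mem (hν v))) hxv]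
    exact T.right_mem_L x y
  have hsub : (fun e : G => e • y) '' (T.S x z : Set G) ⊆ T.O x y := by
    rintro _ ⟨e, he, rfl⟩
    exact ⟨e, he.1, rfl⟩
  have heq := Set.eq_of_subset_of_ncard_le hsub (by
    rw [T.ncard_O_eq hxy hxz, ← Nat.card_coe_set_eq, ← Nat.card_coe_set_eq]
    refine Nat.card_le_card_of_injective
      (fun v => (⟨_, _, inv_mem (hS v), rfl⟩ : ↥((fun e : G => e • y) '' (T.S x z : Set G))))
      fun v v' h => hinj (Subtype.ext ?_)
    have e := congrArg Subtype.val h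
    exact e)
  rw [← heq] at hw
  obtain ⟨e, he, rfl⟩ := hw
  exact ⟨e, he, rfl⟩

/-- Every element of `K x` fixes a point on each line. -/
theorem Flat.exists_fixed {x y z : X} (hyz : y ≠ z) {n : G} (hn : n ∈ T.K x) :
    ∃ v ∈ T.L y z, n • v = v := by
  classical
  by_cases hx : x ∈ T.L y z
  · exact ⟨x, hx, T.le x n hn⟩
  by_cases hny : n • y = y
  · exact ⟨y, T.left_mem_L y z, hny⟩
  have hxy : x ≠ y := fun e => hx (e ▸ T.left_mem_L y z)
  set q := (T.O x y).ncard with hq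
  set f := Nat.card ↥(T.S x y) with hf
  have hsrc : ∀ v : ↥(T.L y z \ {y}), ∃ e ∈ T.S x (v : X), e • y = n • y := by
    rintro ⟨v, hv, hvy⟩
    have hxv : x ≠ v := fun e => hx (e ▸ hv)
    refine hT.exists_S_smul hxv (fun hy => hx ?_) ⟨n, hn, rfl⟩
    have e1 := T.L_eq hyz (T.left_mem_L y z) hv (fun e => hvy e.symm)
    have e2 := T.L_eq hxv hy (T.right_mem_L x v) (fun e => hvy e.symm)
    exact e1 ▸ e2 ▸ T.left_mem_L x v
  choose ε hε hεy using hsrc
  let C := {g : ↥(T.K x) // (g : G) • y = n • y}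
  let D := Σ v : ↥(T.L y z \ {y}), ↥(T.S x (v : X) ⊓ MulAction.stabilizer G y)
  let φ : D → C := fun d => ⟨⟨ε d.1 * d.2, mul_mem (hε d.1).1 d.2.2.1.1⟩, by
    show (ε d.1 * (d.2 : G)) • y = _
    rw [mul_smul, show (d.2 : G) • y = y from d.2.2.2, hεy]⟩
  have hfixv : ∀ d : D, ((φ d).1 : G) • (d.1 : X) = d.1 := fun d => by
    show (ε d.1 * (d.2 : G)) • (d.1 : X) = d.1
    rw [mul_smul, d.2.2.1.2, (hε d.1).2]
  have hinj : Function.Injective φ := by
    rintro ⟨v, s⟩ ⟨v', s'⟩ h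
    obtain rfl : v = v' := by
      by_contra hne
      have hne' : (v : X) ≠ v' := fun e => hne (Subtype.ext e)
      have h1 := hfixv ⟨v, s⟩
      have h2 := hfixv ⟨v', s'⟩
      rw [← h] at h2
      refine hny ((φ ⟨v, s⟩).2.symm.trans (hT.closed (φ ⟨v, s⟩).1.2 hne' h1 h2 ?_))
      rw [T.L_eq hyz v.2.1 v'.2.1 hne']
      exact T.left_mem_L y z
    exact congrArg (Sigma.mk v) (Subtype.ext (mul_left_cancel (congrArg (fun g : C => (g.1 : G)) h)))
  have hC : Nat.card C = f := Nat.card_congr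
    { toFun := fun g => ⟨n⁻¹ * (g.1 : G), T.mem_S.2 ⟨mul_mem (inv_mem hn) g.1.2, by
        rw [mul_smul, g.2, inv_smul_smul]⟩⟩
      invFun := fun s => ⟨⟨n * (s : G), mul_mem hn s.2.1⟩, by
        show (n * (s : G)) • y = _
        rw [mul_smul, show (s : G) • y = y from s.2.2]⟩
      left_inv := fun g => by ext; simp
      right_inv := fun s => by ext; simp }
  haveI : Fintype ↥(T.L y z \ {y}) := Fintype.ofFinite _
  have hLq : Fintype.card ↥(T.L y z \ {y}) = q := by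
    rw [← Nat.card_eq_fintype_card, Nat.card_coe_set_eq, Set.ncard_sdiff_singleton_of_mem
      (T.left_mem_L y z), hT.ncard_L hyz, Nat.add_sub_cancel, T.ncard_O_eq hyz hxy]
  have hD : f ≤ Nat.card D := by
    refine Nat.le_of_mul_le_mul_left ?_ (show 0 < q by have := T.one_lt_ncard_O hxy; omega)
    rw [Nat.card_sigma, Finset.mul_sum]
    calc q * f = ∑ _v : ↥(T.L y z \ {y}), f := by
          rw [Finset.sum_const, Finset.card_univ, hLq, smul_eq_mul]
      _ ≤ _ := Finset.sum_le_sum fun v _ => ?_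
    have hxv : x ≠ (v : X) := fun e => hx (e ▸ v.2.1)
    rw [hf, T.card_S_eq hxy hxv, ← (MulAction.stabilizer ↥(T.S x (v : X)) y).index_mul_card]
    refine Nat.mul_le_mul ?_ (le_of_eq (Nat.card_congr
      { toFun := fun s => ⟨(s : ↥(T.S x (v : X))), (s : ↥(T.S x (v : X))).2, s.2⟩
        invFun := fun s => ⟨⟨s, s.2.1⟩, s.2.2⟩
        left_inv := fun _ => rfl
        right_inv := fun _ => rfl }))
    rw [MulAction.index_stabilizer]
    refine Set.ncard_le_ncard ?_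
    rintro _ ⟨s, rfl⟩
    exact ⟨s, s.2.1, rfl⟩
  obtain ⟨d, hd⟩ := ((Function.Injective.bijective_of_nat_card_le hinj) (hC ▸ hD)).2 ⟨⟨n, hn⟩, rfl⟩
  refine ⟨d.1, d.1.2.1, ?_⟩
  have := hfixv d
  rwa [hd] at this

end Setting

end Cfsg.Agent.ONanTI
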