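import Cfsg.Agent.ONanTI.Basic

/-!
The lines `L x y`, and the perspectivities of a flat setting: when `K x` normalises every `S x y`, it
stabilises every line through `x`, and fixed point sets are closed.
-/

set_option autoImplicit false
set_option linter.unusedSectionVars false

namespace Cfsg.Agent.ONanTI

variable {G X : Type*} [Group G] [Finite G] [MulAction G X] [FaithfulSMul G X] [Finite X]

namespace Setting

variable (T : Setting G X)

/-- The product `S x y * S y x`. -/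
def W (x y : X) : Set G := (fun p : G × G => p.1 * p.2) '' ((T.S x y : Set G) ×ˢ (T.S y x : Set G))

theorem mem_W {x y : X} {g : G} : g ∈ T.W x y ↔ ∃ s ∈ T.S x y, ∃ t ∈ T.S y x, g = s * t := by
  constructor
  · rintro ⟨⟨s, t⟩, ⟨hs, ht⟩, rfl⟩
    exact ⟨s, hs, t, ht, rfl⟩
  · rintro ⟨s, hs, t, ht, rfl⟩
    exact ⟨(s, t), ⟨hs, ht⟩, rfl⟩

theorem W_comm {x y : X} (h : x ≠ y) : T.W x y = T.W y x := by
  ext g
  rw [mem_W, mem_W]
  exact ⟨fun ⟨s, hs, t, ht, e⟩ => ⟨t, ht, s, hs, e.trans (T.commute h hs ht)⟩,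
    fun ⟨s, hs, t, ht, e⟩ => ⟨t, ht, s, hs, e.trans (T.commute h.symm hs ht)⟩⟩

theorem W_mul {x y : X} (h : x ≠ y) {g g' : G} (hg : g ∈ T.W x y) (hg' : g' ∈ T.W x y) :
    g * g' ∈ T.W x y := by
  obtain ⟨s, hs, t, ht, rfl⟩ := T.mem_W.1 hg
  obtain ⟨s', hs', t', ht', rfl⟩ := T.mem_W.1 hg'
  refine T.mem_W.2 ⟨s * s', mul_mem hs hs', t * t', mul_mem ht ht', ?_⟩
  calc s * t * (s' * t') = s * (t * s') * t' := by group
    _ = s * (s' * t) * t' := by rw [T.commute h hs' ht]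
    _ = _ := by group

theorem ncard_W {x y : X} (h : x ≠ y) :
    (T.W x y).ncard = Nat.card ↥(T.S x y) * Nat.card ↥(T.S y x) := by
  rw [W, Set.InjOn.ncard_image, Set.ncard_prod, ← Nat.card_coe_set_eq, ← Nat.card_coe_set_eq]
  · rfl
  rintro ⟨s, t⟩ ⟨hs, ht⟩ ⟨s', t'⟩ ⟨hs', ht'⟩ e
  have e1 : s'⁻¹ * s = t' * t⁻¹ := by
    rw [eq_mul_inv_iff_mul_eq, mul_assoc, inv_mul_eq_iff_eq_mul]
    exact e
  have h1 : s'⁻¹ * s = 1 :=
    T.ti x y h _ (mul_mem (inv_mem hs'.1) hs.1) (e1 ▸ mul_mem ht'.1 (inv_mem ht.1))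
  rw [h1, eq_comm, mul_inv_eq_one] at e1
  rw [inv_mul_eq_one] at h1
  exact Prod.ext h1.symm e1.symm

/-- An element of `K z`, with `z ∈ U x y`, fixing `x` and `y` fixes `U x y`. -/
theorem fix_U {x y z w : X} (h : x ≠ y) (hz : z ∈ T.U x y) {e : G} (he : e ∈ T.K z)
    (hex : e • x = x) (hey : e • y = y) (hw : w ∈ T.U x y) : e • w = w := by
  rcases eq_or_ne z x with rfl | hzx
  · exact hw e ⟨he, hey⟩
  · rw [← T.U_eq_of_mem h hz (T.left_mem_U x y) hzx] at hw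
    exact hw e ⟨he, hex⟩

/-- The line through two points. -/
def L (x y : X) : Set X :=
  {z | z ∈ T.U x y ∧ ∀ e ∈ T.K z, e • x = x → e • y = y → e ∈ T.W x y}

theorem L_comm {x y : X} (h : x ≠ y) : T.L x y = T.L y x := by
  ext z
  simp only [L, Set.mem_ofPred_eq, T.U_comm h, T.W_comm h]
  exact ⟨fun ⟨h1, h2⟩ => ⟨h1, fun e he a b => h2 e he b a⟩,
    fun ⟨h1, h2⟩ => ⟨h1, fun e he a b => h2 e he b a⟩⟩

theorem L_subset (x y : X) : T.L x y ⊆ T.U x y := fun _ hz => hz.1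

theorem left_mem_L (x y : X) : x ∈ T.L x y :=
  ⟨T.left_mem_U x y, fun e he _ hey => T.mem_W.2 ⟨e, ⟨he, hey⟩, 1, one_mem _, (mul_one e).symm⟩⟩

theorem right_mem_L (x y : X) : y ∈ T.L x y :=
  ⟨T.right_mem_U x y, fun e he hex _ => T.mem_W.2 ⟨1, one_mem _, e, ⟨he, hex⟩, (one_mul e).symm⟩⟩

theorem L_eq {x y a b : X} (h : x ≠ y) (ha : a ∈ T.L x y) (hb : b ∈ T.L x y) (hab : a ≠ b) :
    T.L a b = T.L x y := by
  have hU := T.U_eq_of_mem h ha.1 hb.1 hab
  have hxU : x ∈ T.U a b := hU ▸ T.left_mem_U x y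
  have hyU : y ∈ T.U a b := hU ▸ T.right_mem_U x y
  have hsub : ∀ {c d}, c ∈ T.L x y → d ∈ T.L x y → c ≠ d → ∀ e ∈ T.S c d, e ∈ T.W x y := by
    intro c d hc hd hcd e he
    have hU' := T.U_eq_of_mem h hc.1 hd.1 hcd
    exact hc.2 e he.1 ((hU' ▸ T.left_mem_U x y : x ∈ T.U c d) e he)
      ((hU' ▸ T.right_mem_U x y : y ∈ T.U c d) e he)
  have hW : T.W a b = T.W x y := by
    refine Set.eq_of_subset_of_ncard_le ?_ ?_
    · intro g hg
      obtain ⟨s, hs, t, ht, rfl⟩ := T.mem_W.1 hg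
      exact T.W_mul h (hsub ha hb hab s hs) (hsub hb ha hab.symm t ht)
    · rw [T.ncard_W h, T.ncard_W hab, T.card_S_eq h hab, T.card_S_eq h.symm hab.symm]
  ext z
  simp only [L, Set.mem_ofPred_eq, hU, hW]
  refine and_congr_right fun hz => forall₂_congr fun e he => ?_
  constructor
  · intro h1 hx hy
    exact h1 (T.fix_U h hz he hx hy ha.1) (T.fix_U h hz he hx hy hb.1)
  · intro h1 hea heb
    rw [← hU] at hz
    exact h1 (T.fix_U hab hz he hea heb hxU) (T.fix_U hab hz he hea heb hyU)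

theorem smul_mem_L {g : G} {x y z : X} (hz : z ∈ T.L x y) : g • z ∈ T.L (g • x) (g • y) := by
  refine ⟨T.smul_mem_U hz.1, fun e he hex hey => ?_⟩
  have hfix : ∀ w : X, e • g • w = g • w → (g⁻¹ * e * g) • w = w := fun w hw => by
    rw [mul_smul, mul_smul, hw, inv_smul_smul]
  have hKz : g⁻¹ * e * g ∈ T.K z := by simpa using T.conj g⁻¹ _ e he
  obtain ⟨s, hs, t, ht, e1⟩ := T.mem_W.1 (hz.2 _ hKz (hfix x hex) (hfix y hey))
  refine T.mem_W.2 ⟨_, T.conj_mem_S (g := g) hs, _, T.conj_mem_S (g := g) ht, ?_⟩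
  calc e = g * (g⁻¹ * e * g) * g⁻¹ := by group
    _ = (g * s * g⁻¹) * (g * t * g⁻¹) := by rw [e1]; group

/-- `K x` normalises each `S x y`. -/
def Flat : Prop := ∀ x y, ∀ n ∈ T.K x, ∀ s ∈ T.S x y, n * s * n⁻¹ ∈ T.S x y

variable {T} (hT : T.Flat)
include hT

theorem Flat.smul_mem_U {x y z : X} {n : G} (hn : n ∈ T.K x) (hz : z ∈ T.U x y) :
    n • z ∈ T.U x y := by
  intro s hs
  have h := hz _ (hT x y n⁻¹ (inv_mem hn) s hs)
  rwa [inv_inv, mul_smul, mul_smul, inv_smul_eq_iff] at h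

theorem Flat.orbit_mem_L {x y : X} (hxy : x ≠ y) {n : G} (hn : n ∈ T.K x) : n • y ∈ T.L x y := by
  refine ⟨hT.smul_mem_U hn (T.right_mem_U x y), fun e he hex hey => ?_⟩
  have htK : n⁻¹ * e * n ∈ T.K y := by simpa using T.conj n⁻¹ _ e he
  have htx : (n⁻¹ * e * n) • x = x := by
    rw [mul_smul, mul_smul, T.le x n hn, hex]
    conv_lhs => rw [← T.le x n hn]
    rw [inv_smul_smul]
  obtain ⟨t, ht⟩ : ∃ t, t = n⁻¹ * e * n := ⟨_, rfl⟩
  rw [← ht] at htK htx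
  have hcK : n * t * n⁻¹ * t⁻¹ ∈ T.K x := by
    have := mul_mem hn (T.conj_mem_of_fixed htx (inv_mem hn))
    simpa [mul_assoc] using this
  have hcy : (n * t * n⁻¹ * t⁻¹) • y = y := by
    rw [mul_smul, T.le y _ (inv_mem htK), mul_smul, mul_smul,
      T.fixed_symm hxy (hT.smul_mem_U (inv_mem hn) (T.right_mem_U x y)) ⟨htK, htx⟩, smul_inv_smul]
  exact T.mem_W.2 ⟨_, ⟨hcK, hcy⟩, t, ⟨htK, htx⟩, by rw [ht]; group⟩

theorem Flat.smul_L {x y : X} (hxy : x ≠ y) {n : G} (hn : n ∈ T.K x) {z : X} (hz : z ∈ T.L x y) :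
    n • z ∈ T.L x y := by
  have h := T.smul_mem_L (g := n) hz
  rw [T.le x n hn] at h
  have hne : x ≠ n • y := fun e => hxy (MulAction.injective n ((T.le x n hn).trans e))
  rwa [T.L_eq hxy (T.left_mem_L x y) (hT.orbit_mem_L hxy hn) hne] at h

/-- The fixed points of an element of `K x` form a union of full lines. -/
theorem Flat.closed {x y z w : X} {n : G} (hn : n ∈ T.K x) (hyz : y ≠ z) (hy : n • y = y)
    (hz : n • z = z) (hw : w ∈ T.L y z) : n • w = w := by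
  by_cases hx : x ∈ T.L y z
  · exact T.fix_U hyz hx.1 hn hy hz hw.1
  have hxw : x ≠ w := fun e => hx (e ▸ hw)
  have h1 : n • w ∈ T.L y z := by
    have := T.smul_mem_L (g := n) hw
    rwa [hy, hz] at this
  have h2 := hT.smul_L hxw hn (T.right_mem_L x w)
  by_contra hne
  refine hx ?_
  rw [← T.L_eq hyz h1 hw hne, T.L_eq hxw h2 (T.right_mem_L x w) hne]
  exact T.left_mem_L x w

/-- A commutator of `n ∈ K x` with an element fixing `x` fixes its fixed points. -/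
theorem Flat.comm_fixed {x y : X} {n t : G} (hn : n ∈ T.K x) (ht : t ∈ T.K y) (htx : t • x = x)
    {u : X} (htu : t • u = u) : (n * t * n⁻¹ * t⁻¹) • u = u := by
  rw [mul_smul, mul_smul, mul_smul, show t⁻¹ • u = u from inv_smul_eq_iff.2 htu.symm]
  rcases eq_or_ne x u with rfl | hxu
  · rw [T.le x _ (inv_mem hn), htx, T.le x n hn]
  · rw [hT.closed ht hxu htx htu (hT.smul_L hxu (inv_mem hn) (T.right_mem_L x u)), smul_inv_smul]

end Setting

end Cfsg.Agent.ONanTI
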