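import Cfsg.Agent.ONanTI.Space
import Cfsg.Agent.Layer.Components
import Cfsg.Agent.Core.Fitting
import Cfsg.Agent.Classical.LinearBasic

/-!
From a normal subgroup of a point stabiliser to a setting; the abelian case (O'Nan).
-/

set_option autoImplicit false
set_option linter.unusedSectionVars false
set_option linter.style.haveILetI false

namespace Cfsg.Agent.ONanTI

variable {G X : Type*} [Group G] [Finite G] [MulAction G X] [FaithfulSMul G X] [Finite X]

/-- The family of conjugates of a normal subgroup of a point stabiliser. -/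
theorem exists_family (h2 : MulAction.IsMultiplyPretransitive G X 2) (x : X) (N : Subgroup G)
    (hnorm : ∀ g ∈ MulAction.stabilizer G x, ∀ n ∈ N, g * n * g⁻¹ ∈ N) :
    ∃ K : X → Subgroup G, ∀ (g : G) (n : G), n ∈ K (g • x) ↔ g⁻¹ * n * g ∈ N := by
  haveI : MulAction.IsPretransitive G X := MulAction.isPretransitive_of_is_two_pretransitive
  choose γ hγ using fun z : X => MulAction.exists_smul_eq G x z
  refine ⟨fun z => N.map (MulAut.conj (γ z)).toMonoidHom, fun g n => ?_⟩
  rw [Subgroup.mem_map_equiv, MulAut.conj_symm_apply]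
  have hh : (γ (g • x))⁻¹ * g ∈ MulAction.stabilizer G x := by
    rw [MulAction.mem_stabilizer_iff, mul_smul, inv_smul_eq_iff, hγ]
  obtain ⟨a, ha⟩ : ∃ a, a = γ (g • x) := ⟨_, rfl⟩
  rw [← ha] at hh ⊢
  constructor
  · intro h
    have := hnorm _ (inv_mem hh) _ h
    rwa [show (a⁻¹ * g)⁻¹ * (a⁻¹ * n * a) * (a⁻¹ * g)⁻¹⁻¹ = g⁻¹ * n * g by group] at this
  · intro h
    have := hnorm _ hh _ h
    rwa [show a⁻¹ * g * (g⁻¹ * n * g) * (a⁻¹ * g)⁻¹ = a⁻¹ * n * a by group] at this

/-- A trivial intersection normal subgroup of a point stabiliser gives a setting. -/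
theorem exists_setting (h2 : MulAction.IsMultiplyPretransitive G X 2) (x : X) (N : Subgroup G)
    (hle : N ≤ MulAction.stabilizer G x)
    (hnorm : ∀ g ∈ MulAction.stabilizer G x, ∀ n ∈ N, g * n * g⁻¹ ∈ N)
    (hti : ∀ g : G, g • x ≠ x → ∀ n ∈ N, g⁻¹ * n * g ∈ N → n = 1)
    (hnsr : ∃ n ∈ N, n ≠ 1 ∧ ∃ y : X, y ≠ x ∧ n • y = y) :
    ∃ T : Setting G X, T.K x = N := by
  haveI : MulAction.IsPretransitive G X := MulAction.isPretransitive_of_is_two_pretransitive
  obtain ⟨K, hK⟩ := exists_family h2 x N hnorm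
  have hsurj : ∀ z : X, ∃ g : G, g • x = z := MulAction.exists_smul_eq G x
  have htwo : ∀ x y x' y' : X, x ≠ y → x' ≠ y' → ∃ g : G, g • x = x' ∧ g • y = y' :=
    fun _ _ _ _ h h' => MulAction.is_two_pretransitive_iff.1 h2 h h'
  refine ⟨⟨K, ?_, ?_, ?_, ?_, htwo⟩, ?_⟩
  · intro z n hn
    obtain ⟨g, rfl⟩ := hsurj z
    have := hle ((hK g n).1 hn)
    rwa [MulAction.mem_stabilizer_iff, mul_smul, mul_smul, inv_smul_eq_iff] at this
  · intro g z n hn
    obtain ⟨g', rfl⟩ := hsurj z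
    rw [← mul_smul, hK]
    rw [show (g * g')⁻¹ * (g * n * g⁻¹) * (g * g') = g'⁻¹ * n * g' by group]
    exact (hK g' n).1 hn
  · intro a b hab n ha hb
    obtain ⟨g, rfl⟩ := hsurj a
    obtain ⟨g', rfl⟩ := hsurj b
    have h1 := (hK g n).1 ha
    have h2 := (hK g' n).1 hb
    refine (conj_eq_one_iff (a := g⁻¹) (b := n)).1 ?_
    rw [inv_inv]
    refine hti (g⁻¹ * g') (fun e => hab ?_) _ h1 ?_
    · rw [mul_smul, inv_smul_eq_iff] at e; exact e.symm
    · rwa [show (g⁻¹ * g')⁻¹ * (g⁻¹ * n * g) * (g⁻¹ * g') = g'⁻¹ * n * g' by group]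
  · intro a b hab
    obtain ⟨n, hn, h1, y, hyx, hy⟩ := hnsr
    obtain ⟨g, hgx, hgy⟩ := htwo x y a b hyx.symm hab
    refine ⟨g * n * g⁻¹, ?_, fun e => h1 (conj_eq_one_iff.1 e), ?_⟩
    · rw [← hgx, hK, show g⁻¹ * (g * n * g⁻¹) * g = n by group]
      exact hn
    · rw [← hgy, mul_smul, mul_smul, inv_smul_smul, hy]
  · ext n
    show n ∈ K x ↔ n ∈ N
    simpa using hK 1 n

/-- **An abelian normal subgroup of a point stabiliser is a trivial intersection set.** -/
theorem ti_of_comm (h2 : MulAction.IsMultiplyPretransitive G X 2) (x : X) (N : Subgroup G)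
    (hle : N ≤ MulAction.stabilizer G x)
    (hnorm : ∀ g ∈ MulAction.stabilizer G x, ∀ n ∈ N, g * n * g⁻¹ ∈ N)
    (hab : ∀ a ∈ N, ∀ b ∈ N, a * b = b * a) :
    ∀ g : G, g • x ≠ x → ∀ n ∈ N, g⁻¹ * n * g ∈ N → n = 1 := by
  haveI : MulAction.IsPretransitive G X := MulAction.isPretransitive_of_is_two_pretransitive
  obtain ⟨K, hK⟩ := exists_family h2 x N hnorm
  have hsurj : ∀ z : X, ∃ g : G, g • x = z := MulAction.exists_smul_eq G x
  have hfix : ∀ z, ∀ n ∈ K z, n • z = z := by
    intro z n hn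
    obtain ⟨g, rfl⟩ := hsurj z
    have := hle ((hK g n).1 hn)
    rwa [MulAction.mem_stabilizer_iff, mul_smul, mul_smul, inv_smul_eq_iff] at this
  have hconj : ∀ (g : G) (z : X), ∀ n ∈ K z, g * n * g⁻¹ ∈ K (g • z) := by
    intro g z n hn
    obtain ⟨g', rfl⟩ := hsurj z
    rw [← mul_smul, hK, show (g * g')⁻¹ * (g * n * g⁻¹) * (g * g') = g'⁻¹ * n * g' by group]
    exact (hK g' n).1 hn
  have hcomm : ∀ z, ∀ a ∈ K z, ∀ b ∈ K z, a * b = b * a := by
    intro z a ha b hb
    obtain ⟨g, rfl⟩ := hsurj z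
    have := hab _ ((hK g a).1 ha) _ ((hK g b).1 hb)
    calc a * b = g * ((g⁻¹ * a * g) * (g⁻¹ * b * g)) * g⁻¹ := by group
      _ = b * a := by rw [this]; group
  -- the intersections
  have hcard : ∀ a b a' b', a ≠ b → a' ≠ b' →
      Nat.card ↥(K a ⊓ K b) = Nat.card ↥(K a' ⊓ K b') := by
    intro a b a' b' h h'
    obtain ⟨g, rfl, rfl⟩ := MulAction.is_two_pretransitive_iff.1 h2 h h'
    exact Nat.card_congr
      { toFun := fun n => ⟨g * n * g⁻¹, hconj g a n n.2.1, hconj g b n n.2.2⟩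
        invFun := fun n => ⟨g⁻¹ * n * g, by simpa using hconj g⁻¹ _ n n.2.1,
          by simpa using hconj g⁻¹ _ n n.2.2⟩
        left_inv := fun n => Subtype.ext (by simp [mul_assoc])
        right_inv := fun n => Subtype.ext (by simp [mul_assoc]) }
  let Λ : X → X → Set X := fun a b => {z | K a ⊓ K b ≤ K z}
  have hL : ∀ a b c d, a ≠ b → c ∈ Λ a b → d ∈ Λ a b → c ≠ d → Λ c d = Λ a b := by
    intro a b c d h hc hd hcd
    have e : K a ⊓ K b = K c ⊓ K d :=
      Subgroup.eq_of_le_of_card_ge (le_inf hc hd) (hcard _ _ _ _ hcd h).le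
    simp only [Λ, e]
  have hl : ∀ a b, a ∈ Λ a b := fun a b => (inf_le_left : K a ⊓ K b ≤ K a)
  have hr : ∀ a b, b ∈ Λ a b := fun a b => (inf_le_right : K a ⊓ K b ≤ K b)
  intro g hg n hn hgn
  by_contra h1
  have hx : n ∈ K x := by simpa using (hK 1 n).2 (by simpa using hn)
  have hy : n ∈ K (g • x) := (hK g n).2 hgn
  obtain ⟨y, hyg⟩ : ∃ y, y = g • x := ⟨_, rfl⟩
  rw [← hyg] at hy hg
  have hxy : x ≠ y := Ne.symm hg
  refine h1 (FaithfulSMul.eq_of_smul_eq_smul (α := X) fun u => ?_)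
  rw [one_smul]
  by_cases hu : u ∈ Λ x y
  · exact hfix u n (hu ⟨hx, hy⟩)
  by_contra hne
  -- `n` stabilises the lines through `x` and through `y`
  have key : ∀ a, n ∈ K a → a ≠ u → n • u ∈ Λ a u ∧ u ∈ Λ a u := by
    intro a ha _
    refine ⟨?_, hr a u⟩
    intro e he
    have := hconj n u e he.2
    rwa [hcomm a n ha e he.1, mul_inv_cancel_right] at this
  have hxu : x ≠ u := fun e => hu (e ▸ hl x y)
  have hyu : y ≠ u := fun e => hu (e ▸ hr x y)
  have e1 := hL x u _ _ hxu (key x hx hxu).1 (key x hx hxu).2 hne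
  have e2 := hL y u _ _ hyu (key y hy hyu).1 (key y hy hyu).2 hne
  have hyx : y ∈ Λ x u := by rw [← e1, e2]; exact hl y u
  refine hu ?_
  rw [hL x u x y hxu (hl x u) hyx hxy]
  exact hr x u

/-- O'Nan's theorem for an abelian normal subgroup of a point stabiliser. -/
theorem abelian_psl (h2 : MulAction.IsMultiplyPretransitive G X 2) (x : X) (N : Subgroup G)
    (hle : N ≤ MulAction.stabilizer G x)
    (hnorm : ∀ g ∈ MulAction.stabilizer G x, ∀ n ∈ N, g * n * g⁻¹ ∈ N)
    (hab : ∀ a ∈ N, ∀ b ∈ N, a * b = b * a)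
    (hnsr : ∃ n ∈ N, n ≠ 1 ∧ ∃ y : X, y ≠ x ∧ n • y = y) :
    ∃ (m : ℕ) (F : Type) (_ : Field F) (_ : Fintype F), 2 ≤ m ∧
      Nat.card X = (Fintype.card F ^ (m + 1) - 1) / (Fintype.card F - 1) ∧
      ∃ L : Subgroup G, L.Normal ∧
        Nonempty (↥L ≃* Matrix.ProjectiveSpecialLinearGroup (Fin (m + 1)) F) ∧
        Subgroup.centralizer (L : Set G) = ⊥ := by
  obtain ⟨T, hT⟩ := exists_setting h2 x N hle hnorm (ti_of_comm h2 x N hle hnorm hab) hnsr
  haveI : Nontrivial X := by
    obtain ⟨-, -, -, y, hyx, -⟩ := hnsr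
    exact ⟨⟨y, x, hyx⟩⟩
  refine Setting.Flat.exists_psl (T := T) fun a b n hn s hs => ?_
  haveI : MulAction.IsPretransitive G X := MulAction.isPretransitive_of_is_two_pretransitive
  obtain ⟨g, rfl⟩ := MulAction.exists_smul_eq G x a
  have hmem : ∀ m, m ∈ T.K (g • x) → g⁻¹ * m * g ∈ N := fun m hm => by
    have := (T.conj_iff g x (g⁻¹ * m * g)).1 (by simpa [mul_assoc] using hm)
    rwa [hT] at this
  have e := hab _ (hmem n hn) _ (hmem s hs.1)
  have e' : n * s = s * n := by
    calc n * s = g * ((g⁻¹ * n * g) * (g⁻¹ * s * g)) * g⁻¹ := by group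
      _ = s * n := by rw [e]; group
  rwa [e', mul_inv_cancel_right]

/-- A normal simple nonabelian subgroup with trivial centraliser is the generalised Fitting subgroup. -/
theorem generalizedFitting_eq (L : Subgroup G) [L.Normal] (hs : IsSimpleGroup ↥L)
    (hc : Subgroup.centralizer (L : Set G) = ⊥) : Cfsg.generalizedFittingSubgroup G = L := by
  have hna : ⁅L, L⁆ ≠ ⊥ := fun h => by
    have h1 : L ≤ Subgroup.centralizer (L : Set G) := Subgroup.commutator_eq_bot_iff_le_centralizer.1 h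
    rw [hc, le_bot_iff] at h1
    haveI : Nontrivial ↥L := hs.toNontrivial
    obtain ⟨a, b, hab⟩ := exists_pair_ne ↥L
    have h2 : ∀ a : ↥L, (a : G) = 1 := fun a => Subgroup.mem_bot.1 (h1 ▸ a.2)
    exact hab (Subtype.ext ((h2 a).trans (h2 b).symm))
  have hperf : Group.IsPerfect ↥L := by
    rw [Group.isPerfect_def]
    refine ((inferInstance : (commutator ↥L).Normal).eq_bot_or_eq_top).resolve_left fun h => hna ?_
    rw [← Subgroup.map_subtype_commutator, h, Subgroup.map_bot]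
  have hcen : Subgroup.center ↥L = ⊥ := by
    refine ((inferInstance : (Subgroup.center ↥L).Normal).eq_bot_or_eq_top).resolve_right fun h => hna ?_
    rw [← Subgroup.map_subtype_commutator]
    refine (Subgroup.map_eq_bot_iff_of_injective _ L.subtype_injective).2 ?_
    rw [commutator_def, Subgroup.commutator_eq_bot_iff_le_centralizer, Subgroup.coe_top,
      Subgroup.centralizer_univ, h]
  have hLc : IsComponent L := by
    refine ⟨(inferInstance : L.Normal).isSubnormal, hperf, ?_⟩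
    haveI := hs
    exact ((QuotientGroup.quotientMulEquivOfEq hcen).trans QuotientGroup.quotientBot).isSimpleGroup
  show Cfsg.layer G ⊔ Cfsg.fittingSubgroup G = L
  have hF : Cfsg.fittingSubgroup G ≤ ⊥ := by
    rw [← hc, ← Subgroup.commutator_eq_bot_iff_le_centralizer, Subgroup.commutator_comm]
    haveI : (Cfsg.fittingSubgroup G).Normal := Core.fittingSubgroup_normal
    haveI : Group.IsNilpotent ↥(Cfsg.fittingSubgroup G) := Core.fittingSubgroup_isNilpotent
    exact Layer.component_commute_subnormal_solvable hLc inferInstance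
      (inferInstance : (Cfsg.fittingSubgroup G).Normal).isSubnormal
  refine le_antisymm (sup_le (sSup_le fun K hK => ?_) (hF.trans bot_le))
    ((Layer.component_le_layer hLc).trans le_sup_left)
  by_contra hne
  have hne' : K ≠ L := fun e => hne e.le
  have := Subgroup.commutator_eq_bot_iff_le_centralizer.1 (Layer.components_commute hK hLc hne')
  rw [hc] at this
  exact hne (this.trans bot_le)

end Cfsg.Agent.ONanTI
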