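import Cfsg.Agent.ONanTI.Cover
import Cfsg.Agent.ItoDesign.Projective

/-!
The fixed point sets are the blocks of a symmetric design with elations, so the group contains `PSL`.
-/

set_option autoImplicit false
set_option linter.unusedSectionVars false
set_option linter.style.haveILetI false

namespace Cfsg.Agent.ONanTI

open ItoDesign Finset

section Orbits

variable {G P L : Type*} [Group G] [Finite G] [MulAction G P] [MulAction G L] [Fintype P] [Fintype L]
  [DecidableEq P] [DecidableEq L]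

/-- An automorphism group of a design has as many orbits on blocks as on points. -/
theorem card_orbits_eq (D : Design P L)
    (hinv : ∀ (g : G) (p : P) (l : L), g • p ∈ D.pts (g • l) ↔ p ∈ D.pts l) (B : Subgroup G) :
    Nat.card (MulAction.orbitRel.Quotient B P) = Nat.card (MulAction.orbitRel.Quotient B L) := by
  classical
  haveI := Fintype.ofFinite B
  haveI := Fintype.ofFinite (MulAction.orbitRel.Quotient B P)
  haveI := Fintype.ofFinite (MulAction.orbitRel.Quotient B L)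
  have hb1 := MulAction.sum_card_fixedBy_eq_card_orbits_mul_card_group B P
  have hb2 := MulAction.sum_card_fixedBy_eq_card_orbits_mul_card_group B L
  have e : ∀ x : B, Fintype.card (MulAction.fixedBy P x) = Fintype.card (MulAction.fixedBy L x) := fun x => by
    have := (⟨MulAction.toPerm (x : G), MulAction.toPerm (x : G), hinv x⟩ : Aut D).card_fix
    rw [← Set.toFinset_card, ← Set.toFinset_card]
    convert this using 2 <;> ext y <;> simp [Aut.fixP, Aut.fixL] <;> rfl
  rw [Finset.sum_congr rfl fun x _ => e x, hb2] at hb1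
  rw [Nat.card_eq_fintype_card, Nat.card_eq_fintype_card]
  exact (Nat.eq_of_mul_eq_mul_right Fintype.card_pos hb1).symm

end Orbits

variable {G X : Type*} [Group G] [Finite G] [MulAction G X] [FaithfulSMul G X] [Finite X]

namespace Setting

variable (T : Setting G X)

/-- The fixed point sets of the nontrivial elements of the groups `K a`. -/
def IsBlock (H : Set X) : Prop := ∃ a, ∃ n ∈ T.K a, n ≠ 1 ∧ MulAction.fixedBy X n = H

/-- The type of the blocks. -/
def Blk : Type _ := {H : Set X // T.IsBlock H}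

theorem fixedBy_conj (g n : G) :
    MulAction.fixedBy X (g * n * g⁻¹) = (g • ·) '' MulAction.fixedBy X n := by
  ext w
  simp only [MulAction.mem_fixedBy, Set.mem_image, mul_smul]
  constructor
  · intro h
    exact ⟨g⁻¹ • w, by rwa [eq_inv_smul_iff], smul_inv_smul g w⟩
  · rintro ⟨v, hv, rfl⟩
    rw [inv_smul_smul, hv]

instance : MulAction G T.Blk where
  smul g H := ⟨(g • ·) '' H.1, by
    obtain ⟨a, n, hn, h1, hfix⟩ := H.2
    exact ⟨g • a, g * n * g⁻¹, T.conj g a n hn, fun e => h1 (conj_eq_one_iff.1 e),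
      by rw [fixedBy_conj, hfix]⟩⟩
  one_smul H := Subtype.ext (show ((1 : G) • ·) '' H.1 = H.1 by simp)
  mul_smul g g' H := Subtype.ext (show ((g * g') • ·) '' H.1 = (g • ·) '' ((g' • ·) '' H.1) by
    rw [Set.image_image]; simp only [mul_smul])

theorem mem_smul_blk (g : G) (H : T.Blk) (p : X) : g • p ∈ (g • H).1 ↔ p ∈ H.1 :=
  (MulAction.injective g).mem_set_image

variable {T} (hT : T.Flat)
include hT

theorem Flat.block_line {H : Set X} (hH : T.IsBlock H) {y z w : X} (hy : y ∈ H) (hz : z ∈ H)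
    (hyz : y ≠ z) (hw : w ∈ T.L y z) : w ∈ H := by
  obtain ⟨a, n, hn, -, rfl⟩ := hH
  exact hT.closed hn hyz hy hz hw

theorem Flat.block_meet {H : Set X} (hH : T.IsBlock H) {y z : X} (hyz : y ≠ z) :
    ∃ v ∈ T.L y z, v ∈ H := by
  obtain ⟨a, n, hn, -, rfl⟩ := hH
  exact hT.exists_fixed hyz hn

omit hT in
theorem IsBlock.exists_out {H : Set X} (hH : T.IsBlock H) : ∃ u, u ∉ H := by
  obtain ⟨a, n, -, h1, rfl⟩ := hH
  by_contra hc
  push Not at hc
  exact h1 (FaithfulSMul.eq_of_smul_eq_smul fun z => by rw [one_smul]; exact hc z)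

theorem Flat.block_eq {H H' : Set X} (hH : T.IsBlock H) (hH' : T.IsBlock H') (hsub : H ⊆ H') :
    H = H' := by
  refine Set.Subset.antisymm hsub fun u hu => ?_
  by_contra hn
  obtain ⟨w, hw⟩ := hH'.exists_out
  have huw : u ≠ w := fun e => hw (e ▸ hu)
  obtain ⟨h, hh, hhH⟩ := hT.block_meet hH huw
  have huh : u ≠ h := fun e => hn (e ▸ hhH)
  refine hw (hT.block_line hH' hu (hsub hhH) huh ?_)
  rw [T.L_eq huw (T.left_mem_L u w) hh huh]
  exact T.right_mem_L u w

theorem Flat.block_exists_ne {H : Set X} (hH : T.IsBlock H) (a : X) : ∃ b ∈ H, b ≠ a := by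
  obtain ⟨u, hu⟩ := hH.exists_out
  obtain ⟨c, n, hn, -, hfix⟩ := id hH
  have hc : c ∈ H := hfix ▸ T.le c n hn
  rcases eq_or_ne c a with rfl | hca
  · have hcu : c ≠ u := fun e => hu (e ▸ hc)
    obtain ⟨w, hw⟩ := T.U_ne_univ hcu
    have huw : u ≠ w := fun e => hw (e ▸ T.right_mem_U c u)
    obtain ⟨v, hv, hvH⟩ := hT.block_meet hH huw
    refine ⟨v, hvH, fun e => hw ?_⟩
    rw [e] at hv
    refine T.L_subset c u ?_
    rw [T.L_eq huw hv (T.left_mem_L u w) hcu]
    exact T.right_mem_L u w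
  · exact ⟨c, hc, hca⟩

theorem Flat.isTop {H : Set X} (hH : T.IsBlock H) : T.IsTop H := by
  obtain ⟨a, n, hn, h1, hfix⟩ := id hH
  exact ⟨⟨a, n, hn, h1, hfix, hT.block_exists_ne hH a⟩,
    fun b e he he1 hsub => (hT.block_eq hH ⟨b, e, he, he1, rfl⟩ hsub).symm⟩

/-- The lines through a point `u` of `Y` outside `Z` correspond to the points of `Z`. -/
theorem Flat.ncard_of_meet {q : ℕ} (hq : ∀ x y : X, x ≠ y → (T.O x y).ncard = q) (Y Z : Set X) {u : X}
    (hu : u ∈ Y) (hZ : Z ⊆ Y) (huZ : u ∉ Z) (hYc : ∀ y ∈ Y, ∀ z ∈ Y, y ≠ z → T.L y z ⊆ Y)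
    (hZc : ∀ y ∈ Z, ∀ z ∈ Z, y ≠ z → T.L y z ⊆ Z)
    (hmeet : ∀ w ∈ Y, u ≠ w → ∃ v ∈ T.L u w, v ∈ Z) : Y.ncard = 1 + Z.ncard * q := by
  classical
  have hne : ∀ h : ↥Z, u ≠ (h : X) := fun h e => huZ (e ▸ h.2)
  let f : (Σ h : ↥Z, ↥(T.L u (h : X) \ {u})) → ↥(Y \ {u}) := fun d =>
    ⟨d.2, hYc u hu _ (hZ d.1.2) (hne d.1) d.2.2.1, d.2.2.2⟩
  have hf : Function.Bijective f := by
    constructor
    · rintro ⟨h, w, hw, hwu⟩ ⟨h', w', hw', hwu'⟩ e
      obtain rfl : w = w' := congrArg Subtype.val e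
      obtain rfl : h = h' := by
        by_contra hhh
        have hne' : (h : X) ≠ h' := fun e => hhh (Subtype.ext e)
        have e1 := T.L_eq (hne h) (T.left_mem_L u (h : X)) hw (fun e => hwu e.symm)
        have e2 := T.L_eq (hne h') (T.left_mem_L u (h' : X)) hw' (fun e => hwu e.symm)
        have hh' : (h' : X) ∈ T.L u (h : X) := by
          rw [← e1, e2]; exact T.right_mem_L u (h' : X)
        refine huZ (hZc _ h.2 _ h'.2 hne' ?_)
        rw [T.L_eq (hne h) (T.right_mem_L u (h : X)) hh' hne']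
        exact T.left_mem_L u (h : X)
      rfl
    · rintro ⟨w, hwY, hwu⟩
      have huw : u ≠ w := fun e => hwu e.symm
      obtain ⟨v, hv, hvZ⟩ := hmeet w hwY huw
      have huv : u ≠ v := fun e => huZ (e ▸ hvZ)
      refine ⟨⟨⟨v, hvZ⟩, ⟨w, ?_, hwu⟩⟩, rfl⟩
      show w ∈ T.L u v
      rw [T.L_eq huw (T.left_mem_L u w) hv huv]
      exact T.right_mem_L u w
  haveI := Fintype.ofFinite ↥Z
  have h1 := Nat.card_congr (Equiv.ofBijective f hf)
  rw [Nat.card_sigma, Finset.sum_congr rfl (g := fun _ => q) fun h _ => ?_, Finset.sum_const,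
    Finset.card_univ, smul_eq_mul, ← Nat.card_eq_fintype_card, Nat.card_coe_set_eq,
    Nat.card_coe_set_eq, Set.ncard_sdiff_singleton_of_mem hu] at h1
  · have : 0 < Y.ncard := (Set.ncard_pos (Set.toFinite _)).2 ⟨u, hu⟩
    omega
  · rw [Nat.card_coe_set_eq, Set.ncard_sdiff_singleton_of_mem (T.left_mem_L u (h : X)),
      hT.ncard_L (hne h), Nat.add_sub_cancel, hq _ _ (hne h)]

/-- The elations with axis `H`. -/
def Flat.axial (H : T.Blk) : Subgroup G where
  carrier := {e | ∃ a ∈ H.1, e ∈ T.A H.1 a}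
  one_mem' := by
    obtain ⟨a, n, hn, -, hfix⟩ := H.2
    exact ⟨a, hfix ▸ T.le a n hn, one_mem _⟩
  mul_mem' := by
    rintro e e' ⟨a, ha, he⟩ ⟨b, hb, he'⟩
    rcases eq_or_ne a b with rfl | hab
    · exact ⟨a, ha, mul_mem he he'⟩
    · obtain ⟨c, hc, hmem⟩ := ((hT.isTop H.2).line hT ha hb hab).2 e he e' he'
      exact ⟨c, hT.block_line H.2 ha hb hab hc, hmem⟩
  inv_mem' := fun ⟨a, ha, he⟩ => ⟨a, ha, inv_mem he⟩

set_option maxHeartbeats 400000 in
/-- **O'Nan's theorem for a flat setting.** -/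
theorem Flat.exists_psl [Nontrivial X] :
    ∃ (m : ℕ) (F : Type) (_ : Field F) (_ : Fintype F), 2 ≤ m ∧
      Nat.card X = (Fintype.card F ^ (m + 1) - 1) / (Fintype.card F - 1) ∧
      ∃ N : Subgroup G, N.Normal ∧
        Nonempty (↥N ≃* Matrix.ProjectiveSpecialLinearGroup (Fin (m + 1)) F) ∧
        Subgroup.centralizer (N : Set G) = ⊥ := by
  classical
  haveI : Fintype X := Fintype.ofFinite X
  haveI : Finite T.Blk := inferInstanceAs (Finite {H : Set X // T.IsBlock H})
  letI : Fintype T.Blk := Fintype.ofFinite _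
  obtain ⟨x₀, y₀, hxy₀⟩ := exists_pair_ne X
  obtain ⟨q, hqdef⟩ : ∃ q, q = (T.O x₀ y₀).ncard := ⟨_, rfl⟩
  have hq : ∀ x y : X, x ≠ y → (T.O x y).ncard = q := fun x y h => hqdef ▸ T.ncard_O_eq h hxy₀
  have hq2 : 2 ≤ q := hqdef ▸ T.one_lt_ncard_O hxy₀
  have htr : ∀ p p' : X, ∃ g : G, g • p = p' := fun p p' => by
    obtain ⟨c, hc⟩ := exists_ne p
    obtain ⟨c', hc'⟩ := exists_ne p'
    obtain ⟨g, hg, -⟩ := T.two p c p' c' hc.symm hc'.symm
    exact ⟨g, hg⟩
  obtain ⟨H₀⟩ : Nonempty T.Blk := by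
    obtain ⟨s, hs, h1⟩ := T.S_ne_bot hxy₀
    exact ⟨⟨_, x₀, s, hs.1, h1, rfl⟩⟩
  let pts : T.Blk → Finset X := fun H => H.1.toFinset
  have hmem : ∀ H p, p ∈ pts H ↔ p ∈ H.1 := fun H p => Set.mem_toFinset
  have hinv : ∀ (g : G) (p : X) (H : T.Blk), g • p ∈ pts (g • H) ↔ p ∈ pts H := fun g p H => by
    rw [hmem, hmem]; exact T.mem_smul_blk g H p
  obtain ⟨r, hrdef⟩ : ∃ r, r = H₀.1.ncard := ⟨_, rfl⟩
  have hv : ∀ H : T.Blk, Fintype.card X = 1 + H.1.ncard * q := fun H => by
    obtain ⟨u, hu⟩ := H.2.exists_out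
    rw [← Nat.card_eq_fintype_card, ← Set.ncard_univ]
    exact hT.ncard_of_meet hq Set.univ H.1 (Set.mem_univ u) (Set.subset_univ _) hu
      (fun _ _ _ _ _ => Set.subset_univ _) (fun y hy z hz hyz w hw => hT.block_line H.2 hy hz hyz hw)
      fun w _ huw => hT.block_meet H.2 huw
  have hblk : ∀ H : T.Blk, (pts H).card = r := fun H => by
    rw [← Set.ncard_eq_toFinset_card', hrdef]
    have := (hv H).symm.trans (hv H₀)
    exact Nat.eq_of_mul_eq_mul_right (by omega) (Nat.add_left_cancel this)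
  have hinter : ∀ H H' : T.Blk, H ≠ H' → r = 1 + (pts H ∩ pts H').card * q := fun H H' hne => by
    obtain ⟨u, hu', hu⟩ : ∃ u ∈ H'.1, u ∉ H.1 := by
      by_contra hc
      push Not at hc
      exact hne (Subtype.ext (hT.block_eq H'.2 H.2 hc).symm)
    rw [← hblk H', ← Set.ncard_eq_toFinset_card', show pts H ∩ pts H' = (H.1 ∩ H'.1).toFinset by
      simp [pts], ← Set.ncard_eq_toFinset_card']
    exact hT.ncard_of_meet hq H'.1 (H.1 ∩ H'.1) hu' Set.inter_subset_right (fun h => hu h.1)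
      (fun y hy z hz hyz w hw => hT.block_line H'.2 hy hz hyz hw)
      (fun y hy z hz hyz w hw =>
        ⟨hT.block_line H.2 hy.1 hz.1 hyz hw, hT.block_line H'.2 hy.2 hz.2 hyz hw⟩)
      fun w hw huw => (hT.block_meet H.2 huw).imp fun v hv => ⟨hv.1, hv.2, hT.block_line H'.2 hu' hw huw hv.1⟩
  obtain ⟨H₁, hH₁⟩ : ∃ H₁ : T.Blk, H₁ ≠ H₀ := by
    obtain ⟨u, hu⟩ := H₀.2.exists_out
    obtain ⟨a, ha, -⟩ := hT.block_exists_ne H₀.2 u
    obtain ⟨g, hg⟩ := htr a u
    exact ⟨g • H₀, fun e => hu (by rw [← e, ← hg, T.mem_smul_blk]; exact ha)⟩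
  obtain ⟨lam, hlam⟩ : ∃ lam, lam = (pts H₁ ∩ pts H₀).card := ⟨_, rfl⟩
  have hr : r = 1 + lam * q := hlam ▸ hinter H₁ H₀ hH₁
  have htwo_blks : ∀ H H', H ≠ H' → (pts H ∩ pts H').card = lam := fun H H' hne =>
    Nat.eq_of_mul_eq_mul_right (show 0 < q by omega)
      (Nat.add_left_cancel ((hinter H H' hne).symm.trans hr))
  have hr2 : 2 ≤ r := by
    obtain ⟨a, ha, -⟩ := hT.block_exists_ne H₀.2 x₀
    obtain ⟨b, hb, hba⟩ := hT.block_exists_ne H₀.2 a
    rw [hrdef]
    exact (Set.one_lt_ncard (Set.toFinite _)).2 ⟨b, hb, a, ha, hba⟩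
  have hlam1 : 1 ≤ lam := by
    rcases Nat.eq_zero_or_pos lam with h0 | h0
    · rw [h0, zero_mul] at hr; omega
    · exact h0
  -- the regularity on the side of the points
  obtain ⟨R, hR⟩ : ∃ R, R = (univ.filter fun H => x₀ ∈ pts H).card := ⟨_, rfl⟩
  have hptR : ∀ p, (univ.filter fun H => p ∈ pts H).card = R := fun p => by
    obtain ⟨g, rfl⟩ := htr x₀ p
    rw [hR]
    refine (Finset.card_equiv (MulAction.toPerm g) fun H => ?_).symm
    simp only [Finset.mem_filter, Finset.mem_univ, true_and, MulAction.toPerm_apply, hinv]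
  obtain ⟨l₂, hl₂⟩ : ∃ l₂, l₂ = (univ.filter fun H => x₀ ∈ pts H ∧ y₀ ∈ pts H).card := ⟨_, rfl⟩
  have htwo_pts : ∀ p p', p ≠ p' → (univ.filter fun H => p ∈ pts H ∧ p' ∈ pts H).card = l₂ := by
    intro p p' hne
    obtain ⟨g, rfl, rfl⟩ := T.two x₀ y₀ p p' hxy₀ hne
    rw [hl₂]
    refine (Finset.card_equiv (MulAction.toPerm g) fun H => ?_).symm
    simp only [Finset.mem_filter, Finset.mem_univ, true_and, MulAction.toPerm_apply, hinv]
  have hc1 : Fintype.card T.Blk * r = Fintype.card X * R := by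
    have h := Finset.sum_card_bipartiteAbove_eq_sum_card_bipartiteBelow (s := (univ : Finset X))
      (t := (univ : Finset T.Blk)) fun p H => p ∈ pts H
    simp only [Finset.bipartiteAbove, Finset.bipartiteBelow, hptR, Finset.filter_univ_mem, hblk,
      Finset.sum_const, smul_eq_mul, Finset.card_univ] at h
    exact h.symm
  have hc2 : (Fintype.card X - 1) * l₂ = R * (r - 1) := by
    have h := Finset.sum_card_bipartiteAbove_eq_sum_card_bipartiteBelow
      (s := univ.erase x₀) (t := univ.filter fun H => x₀ ∈ pts H) fun p H => p ∈ pts H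
    simp only [Finset.bipartiteAbove, Finset.bipartiteBelow, Finset.filter_filter] at h
    have hr' : ∀ H ∈ univ.filter (fun H => x₀ ∈ pts H),
        ((univ.erase x₀).filter fun p => p ∈ pts H).card = r - 1 := by
      intro H hH
      rw [← hblk H, ← Finset.card_erase_of_mem (Finset.mem_filter.1 hH).2]
      congr 1
      ext p
      simp [and_comm]
    rw [Finset.sum_congr rfl fun p hp => htwo_pts x₀ p (Ne.symm (Finset.ne_of_mem_erase hp)),
      Finset.sum_congr rfl hr', Finset.sum_const, Finset.sum_const, hptR,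
      Finset.card_erase_of_mem (mem_univ _), Finset.card_univ, smul_eq_mul, smul_eq_mul] at h
    exact h
  have hc3 : r * (R - 1) = (Fintype.card T.Blk - 1) * lam := by
    have h := Finset.sum_card_bipartiteAbove_eq_sum_card_bipartiteBelow
      (s := pts H₀) (t := univ.erase H₀) fun p H => p ∈ pts H
    simp only [Finset.bipartiteAbove, Finset.bipartiteBelow] at h
    have h1 : ∀ p ∈ pts H₀, ((univ.erase H₀).filter fun H => p ∈ pts H).card = R - 1 := by
      intro p hp
      rw [Finset.filter_erase, Finset.card_erase_of_mem (by simpa using hp), hptR]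
    have h2 : ∀ H ∈ univ.erase H₀, ((pts H₀).filter fun p => p ∈ pts H).card = lam := fun H hH => by
      rw [Finset.filter_mem_eq_inter]
      exact htwo_blks _ _ (Ne.symm (Finset.ne_of_mem_erase hH))
    rw [Finset.sum_congr rfl h1, Finset.sum_congr rfl h2, Finset.sum_const, Finset.sum_const, hblk,
      Finset.card_erase_of_mem (mem_univ _), Finset.card_univ, smul_eq_mul, smul_eq_mul] at h
    exact h
  have hvX : Fintype.card X = 1 + r * q := hrdef ▸ hv H₀
  have hRr : R = r := by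
    have hR1 : 1 ≤ R := by
      rcases Nat.eq_zero_or_pos R with h0 | h0
      · rw [h0, mul_zero, mul_eq_zero] at hc1
        have : 0 < Fintype.card T.Blk := Fintype.card_pos_iff.2 ⟨H₀⟩
        omega
      · exact h0
    have hb1 : 1 ≤ Fintype.card T.Blk := Fintype.card_pos_iff.2 ⟨H₀⟩
    zify [hR1, hb1] at hc3 hc1 hr hvX
    have key : ((R : ℤ) - r) * ((r : ℤ) - lam) = 0 := by
      rw [hvX] at hc1
      linear_combination (r : ℤ) * hc3 + (lam : ℤ) * hc1 - (r : ℤ) * (R : ℤ) * hr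
    rcases mul_eq_zero.1 key with h | h
    · omega
    · exfalso
      have : lam * 2 ≤ lam * q := Nat.mul_le_mul_left _ hq2
      omega
  subst hRr
  have hbv : Fintype.card T.Blk = Fintype.card X :=
    Nat.eq_of_mul_eq_mul_right (show 0 < R by omega) hc1
  have hl : l₂ = lam := by
    rw [hvX, show R - 1 = lam * q by omega, Nat.add_sub_cancel_left] at hc2
    exact Nat.eq_of_mul_eq_mul_left (Nat.mul_pos (show 0 < R by omega) (show 0 < q by omega))
      (hc2.trans (by ring))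
  subst hl
  let D : Design X T.Blk :=
    { pts := pts
      k := R
      lam := l₂
      card_eq := hbv
      blk := hblk
      pt := hptR
      two_pts := htwo_pts
      two_blks := htwo_blks
      lam_pos := hlam1
      lam_lt := by
        have : l₂ * 2 ≤ l₂ * q := Nat.mul_le_mul_left _ hq2
        omega
      count := by rw [hvX, hr]; ring }
  -- transitivity
  have hflag : ∀ H : T.Blk, ∀ p ∈ H.1, ∀ p' ∈ H.1, ∃ g : G, g • H = H ∧ g • p = p' := by
    intro H p hp p' hp'
    rcases eq_or_ne p p' with rfl | hne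
    · exact ⟨1, one_smul _ _, one_smul _ _⟩
    obtain ⟨c, hc, hcp, hcp'⟩ : ∃ c ∈ T.L p p', c ≠ p ∧ c ≠ p' := by
      by_contra hcc
      push Not at hcc
      have hsub : T.L p p' ⊆ {p, p'} := fun c hc => by
        by_cases h : c = p
        · exact Or.inl h
        · exact Or.inr (hcc c hc h)
      have := Set.ncard_le_ncard hsub
      rw [Set.ncard_pair hne, hT.ncard_L hne, hq _ _ hne] at this
      omega
    obtain ⟨n, hn, hnp⟩ := hT.exists_smul hcp (z := p')
      (by rw [T.L_eq hne hc (T.left_mem_L p p') hcp]; exact T.right_mem_L p p') hcp'.symm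
    refine ⟨n, Subtype.ext (Set.eq_of_subset_of_ncard_le ?_ ?_), hnp⟩
    · rintro _ ⟨h, hh, rfl⟩
      exact (hT.isTop H.2).smul_mem hT (hT.block_line H.2 hp hp' hne hc) hh hn
    · rw [show (n • H).1 = (n • ·) '' H.1 from rfl, Set.ncard_image_of_injective _ (MulAction.injective n)]
  have hout : ∀ H : T.Blk, ∀ u w, u ∉ H.1 → w ∉ H.1 →
      ∃ g : G, g • H = H ∧ g • u = w := by
    intro H u w hu hw
    rcases eq_or_ne u w with rfl | hne
    · exact ⟨1, one_smul _ _, one_smul _ _⟩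
    obtain ⟨c, hc, hcH⟩ := hT.block_meet H.2 hne
    have hcu : c ≠ u := fun e => hu (e ▸ hcH)
    have hwO : w ∈ T.O c u := by
      refine hT.exists_smul hcu ?_ (fun e => hw (e ▸ hcH))
      rw [T.L_eq hne hc (T.left_mem_L u w) hcu]
      exact T.right_mem_L u w
    obtain ⟨e, he, heu⟩ := ((hT.isTop H.2).card_A hT hcH hu).2 w hwO
    refine ⟨e, Subtype.ext ?_, heu⟩
    show (e • ·) '' H.1 = H.1
    exact (Set.image_congr fun h hh => (T.mem_A.1 he).2 h hh).trans (Set.image_id' _)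
  have hLtr : ∀ l m : T.Blk, ∃ g : G, g • l = m := by
    intro l m
    have h := card_orbits_eq D hinv (⊤ : Subgroup G)
    have h1 : Subsingleton (MulAction.orbitRel.Quotient (⊤ : Subgroup G) X) :=
      ⟨fun a b => Quotient.inductionOn₂' a b fun p p' => by
        obtain ⟨g, hg⟩ := htr p' p
        exact Quotient.eq''.2 ⟨⟨g, trivial⟩, hg⟩⟩
    rw [Nat.card_of_subsingleton (Quotient.mk'' x₀)] at h
    haveI := (Nat.card_eq_one_iff_unique.1 h.symm).1
    obtain ⟨⟨g, hgm⟩, hg⟩ := Quotient.eq''.1 (Subsingleton.elim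
      (Quotient.mk'' m : MulAction.orbitRel.Quotient (⊤ : Subgroup G) T.Blk) (Quotient.mk'' l))
    exact ⟨g, hg⟩
  have hLtwo : ∀ H l m : T.Blk, l ≠ H → m ≠ H → ∃ g : G, g • H = H ∧ g • l = m := by
    intro H l m hl hm
    set B := MulAction.stabilizer G H
    have h := card_orbits_eq D hinv B
    obtain ⟨u, hu⟩ := H.2.exists_out
    obtain ⟨a, ha, -⟩ := hT.block_exists_ne H.2 u
    have hle : Nat.card (MulAction.orbitRel.Quotient B X) ≤ 2 := by
      refine (Nat.card_le_card_of_surjective (fun b : Bool => Quotient.mk'' (cond b a u)) ?_).trans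
        (by simp)
      intro o
      induction o using Quotient.inductionOn' with
      | h p =>
        by_cases hp : p ∈ H.1
        · obtain ⟨g, hg, hgp⟩ := hflag H p hp a ha
          exact ⟨true, Quotient.eq''.2 ⟨⟨g, hg⟩, hgp⟩⟩
        · obtain ⟨g, hg, hgp⟩ := hout H p u hp hu
          exact ⟨false, Quotient.eq''.2 ⟨⟨g, hg⟩, hgp⟩⟩
    rw [h] at hle
    haveI := Fintype.ofFinite (MulAction.orbitRel.Quotient B T.Blk)
    have hne : ∀ l, l ≠ H → (Quotient.mk'' l : MulAction.orbitRel.Quotient B T.Blk) ≠ Quotient.mk'' H :=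
      fun l hl e => hl (by obtain ⟨⟨g, hg⟩, rfl⟩ := Quotient.eq''.1 e; exact hg)
    have hlm : (Quotient.mk'' l : MulAction.orbitRel.Quotient B T.Blk) = Quotient.mk'' m := by
      by_contra hlm
      have := Fintype.two_lt_card_iff.2 ⟨_, _, _, hlm, hne l hl, hne m hm⟩
      rw [← Nat.card_eq_fintype_card] at this
      exact absurd this (not_lt.2 hle)
    obtain ⟨⟨g, hg⟩, e⟩ := Quotient.eq''.1 hlm.symm
    exact ⟨g, hg, e⟩
  let E : Elations G D :=
    { K := hT.axial
      inv := hinv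
      axis := fun H e ⟨a, _, he⟩ p hp => (T.mem_A.1 he).2 p ((hmem H p).1 hp)
      semireg := fun H e ⟨a, _, he⟩ p hp heq =>
        (hT.isTop H.2).semireg (fun h => hp ((hmem H p).2 h)) he heq
      conj := fun g H e ⟨a, ha, he⟩ => by
        refine ⟨g • a, (T.mem_smul_blk g H a).2 ha, T.mem_A.2 ⟨T.conj g a e (T.mem_A.1 he).1, ?_⟩⟩
        rintro _ ⟨h, hh, rfl⟩
        show (g * e * g⁻¹) • g • h = g • h
        rw [mul_smul, mul_smul, inv_smul_smul, (T.mem_A.1 he).2 h hh]
      nontriv := fun H => by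
        obtain ⟨a, n, hn, h1, hfix⟩ := H.2
        exact ⟨n, ⟨a, hfix ▸ T.le a n hn, T.mem_A.2 ⟨hn, fun h hh => by rw [← hfix] at hh; exact hh⟩⟩, h1⟩
      two := fun l m l' m' hlm hlm' => by
        obtain ⟨g, hg⟩ := hLtr l l'
        obtain ⟨h, hh, hhm⟩ := hLtwo l' (g • m) m'
          (fun e => hlm (MulAction.injective g (hg.trans e.symm))) hlm'.symm
        exact ⟨h * g, by rw [mul_smul, hg, hh], by rw [mul_smul, hhm]⟩
      flag := fun H p hp p' hp' => hflag H p ((hmem H p).1 hp) p' ((hmem H p').1 hp') }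
  haveI : Nonempty T.Blk := ⟨H₀⟩
  exact E.exists_psl

end Setting

end Cfsg.Agent.ONanTI
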