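import Cfsg.Agent.ONanTI.Lines

/-!
Largest fixed point sets `H` of the elements of the groups `K a`, and the groups `A H a` of elements of
`K a` fixing `H`: they are regular on the lines through `a` not in `H`, and every line is full.
-/

set_option autoImplicit false
set_option linter.unusedSectionVars false
set_option linter.style.haveILetI false

namespace Cfsg.Agent.ONanTI

variable {G X : Type*} [Group G] [Finite G] [MulAction G X] [FaithfulSMul G X] [Finite X]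

namespace Setting

variable (T : Setting G X)

/-- The orbit of `y` under `K x`. -/
def O (x y : X) : Set X := {z | ∃ n ∈ T.K x, n • y = z}

theorem self_mem_O (x y : X) : y ∈ T.O x y := ⟨1, one_mem _, one_smul _ _⟩

theorem ncard_O (x y : X) : (T.O x y).ncard * Nat.card ↥(T.S x y) = Nat.card ↥(T.K x) := by
  rw [← (MulAction.stabilizer ↥(T.K x) y).index_mul_card]
  congr 1
  · rw [MulAction.index_stabilizer]
    congr 1
    ext z
    simp [O, MulAction.mem_orbit_iff, Subgroup.smul_def]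
  · exact Nat.card_congr
      { toFun := fun s => ⟨⟨s, s.2.1⟩, s.2.2⟩
        invFun := fun s => ⟨(s : ↥(T.K x)), (s : ↥(T.K x)).2, s.2⟩
        left_inv := fun _ => rfl
        right_inv := fun _ => rfl }

theorem ncard_O_eq {x y x' y' : X} (h : x ≠ y) (h' : x' ≠ y') :
    (T.O x y).ncard = (T.O x' y').ncard := by
  refine Nat.eq_of_mul_eq_mul_right (Nat.card_pos (α := ↥(T.S x y))) ?_
  rw [T.ncard_O, T.card_S_eq h h', T.ncard_O]
  obtain ⟨g, rfl, -⟩ := T.two x y x' y' h h'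
  exact T.card_K_smul g x

theorem one_lt_ncard_O {x y : X} (h : x ≠ y) : 1 < (T.O x y).ncard := by
  by_contra hle
  obtain ⟨n, hn, h1, -⟩ := T.nsr x y h
  refine h1 (FaithfulSMul.eq_of_smul_eq_smul (α := X) fun z => ?_)
  rw [one_smul]
  rcases eq_or_ne x z with rfl | hxz
  · exact T.le x n hn
  · have : (T.O x z).ncard ≤ 1 := by rw [T.ncard_O_eq hxz h]; omega
    exact (Set.ncard_le_one (Set.toFinite _)).1 this _ ⟨n, hn, rfl⟩ _ (T.self_mem_O x z)

/-- A largest fixed point set of an element of some `K a` with a further fixed point. -/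
def IsTop (H : Set X) : Prop :=
  (∃ a, ∃ t ∈ T.K a, t ≠ 1 ∧ MulAction.fixedBy X t = H ∧ ∃ b ∈ H, b ≠ a) ∧
    ∀ a, ∀ e ∈ T.K a, e ≠ 1 → H ⊆ MulAction.fixedBy X e → MulAction.fixedBy X e = H

theorem exists_top {x y : X} (h : x ≠ y) : ∃ H, T.IsTop H ∧ T.U x y ⊆ H := by
  classical
  obtain ⟨s, hs, h1⟩ := T.S_ne_bot h
  have hsU : T.U x y ⊆ MulAction.fixedBy X s := fun z hz => hz s hs
  let Sx := {e : G // ∃ a, e ∈ T.K a ∧ e ≠ 1 ∧ MulAction.fixedBy X s ⊆ MulAction.fixedBy X e}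
  haveI : Nonempty Sx := ⟨⟨s, x, hs.1, h1, subset_rfl⟩⟩
  obtain ⟨⟨t, a, hta, ht1, hst⟩, hmax⟩ :=
    Finite.exists_max fun e : Sx => (MulAction.fixedBy X (e : G)).ncard
  refine ⟨_, ⟨⟨a, t, hta, ht1, rfl, ?_⟩, fun b e he he1 hsub => ?_⟩, hsU.trans hst⟩
  · by_cases hxa : x = a
    · exact ⟨y, hst (hsU (T.right_mem_U x y)), fun e => h (hxa.trans e.symm)⟩
    · exact ⟨x, hst (hsU (T.left_mem_U x y)), hxa⟩
  · exact (Set.eq_of_subset_of_ncard_le hsub (hmax ⟨e, b, he, he1, hst.trans hsub⟩)).symm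

/-- The elements of `K a` fixing `H`. -/
def A (H : Set X) (a : X) : Subgroup G := T.K a ⊓ fixingSubgroup G H

theorem mem_A {H : Set X} {a : X} {e : G} : e ∈ T.A H a ↔ e ∈ T.K a ∧ ∀ h ∈ H, e • h = h := by
  simp [A, mem_fixingSubgroup_iff]

variable {T}

theorem IsTop.mem_center {H : Set X} (hH : T.IsTop H) : ∃ a ∈ H, ∃ b ∈ H, b ≠ a := by
  obtain ⟨a, t, hta, -, rfl, hb⟩ := hH.1
  exact ⟨a, T.le a t hta, hb⟩

theorem IsTop.exists_out {H : Set X} (hH : T.IsTop H) : ∃ u, u ∉ H := by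
  obtain ⟨a, t, hta, ht1, rfl, -⟩ := hH.1
  by_contra hc
  push Not at hc
  exact ht1 (FaithfulSMul.eq_of_smul_eq_smul fun z => by rw [one_smul]; exact hc z)

/-- `A H a` is semiregular outside `H`. -/
theorem IsTop.semireg {H : Set X} (hH : T.IsTop H) {a u : X} (hu : u ∉ H) {e : G}
    (he : e ∈ T.A H a) (heu : e • u = u) : e = 1 := by
  by_contra h1
  rw [mem_A] at he
  exact hu (hH.2 a e he.1 h1 (fun z hz => he.2 z hz) ▸ heu)

variable (hT : T.Flat)
include hT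

theorem IsTop.line_subset {H : Set X} (hH : T.IsTop H) {y z w : X} (hy : y ∈ H) (hz : z ∈ H)
    (hyz : y ≠ z) (hw : w ∈ T.L y z) : w ∈ H := by
  obtain ⟨a, t, hta, -, rfl, -⟩ := hH.1
  exact hT.closed hta hyz hy hz hw

theorem IsTop.smul_mem {H : Set X} (hH : T.IsTop H) {a h : X} (ha : a ∈ H) (hh : h ∈ H) {n : G}
    (hn : n ∈ T.K a) : n • h ∈ H := by
  rcases eq_or_ne a h with rfl | hah
  · rwa [T.le a n hn]
  · exact hH.line_subset hT ha hh hah (hT.smul_L hah hn (T.right_mem_L a h))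

theorem IsTop.comm_mem {H : Set X} (_hH : T.IsTop H) {a b : X} (ha : a ∈ H) {n t : G}
    (hn : n ∈ T.K a) (ht : t ∈ T.A H b) : n * t * n⁻¹ * t⁻¹ ∈ T.A H a := by
  rw [mem_A] at ht ⊢
  refine ⟨?_, fun h hh => hT.comm_fixed hn ht.1 (ht.2 a ha) (ht.2 h hh)⟩
  have := mul_mem hn (T.conj_mem_of_fixed (ht.2 a ha) (inv_mem hn))
  simpa [mul_assoc] using this

theorem IsTop.exists_ne_one {H : Set X} (hH : T.IsTop H) {a : X} (ha : a ∈ H) :
    ∃ b ∈ H, b ≠ a ∧ ∃ t ∈ T.A H b, t ≠ 1 := by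
  obtain ⟨a₀, t, hta, ht1, hfix, b, hb, hba⟩ := hH.1
  have htA : t ∈ T.A H a₀ := T.mem_A.2 ⟨hta, fun h hh => by rw [← hfix] at hh; exact hh⟩
  have ha₀ : a₀ ∈ H := hfix ▸ T.le a₀ t hta
  rcases eq_or_ne a₀ a with rfl | hne
  · obtain ⟨z, ⟨n, hn, rfl⟩, hne2⟩ := Set.exists_ne_of_one_lt_ncard (T.one_lt_ncard_O hba) a₀
    refine ⟨b, hb, hba, _, hH.comm_mem hT hb hn htA, fun e => hne2 ?_⟩
    exact T.fixed_of_conj_eq hta ht1 (mul_inv_eq_one.1 e)
  · exact ⟨a₀, ha₀, hne, t, htA, ht1⟩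

/-- `A H a` is regular on the `K a`-orbit of a point outside `H`. -/
theorem IsTop.card_A {H : Set X} (hH : T.IsTop H) {a u : X} (ha : a ∈ H) (hu : u ∉ H) :
    Nat.card ↥(T.A H a) = (T.O a u).ncard ∧
      ∀ z ∈ T.O a u, ∃ e ∈ T.A H a, e • u = z := by
  classical
  have hau : a ≠ u := fun e => hu (e ▸ ha)
  obtain ⟨b, hb, hba, t, ht, ht1⟩ := hH.exists_ne_one hT ha
  have hle : Nat.card ↥(T.A H a) ≤ (T.O a u).ncard := by
    rw [← Nat.card_coe_set_eq]
    refine Nat.card_le_card_of_injective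
      (fun e : ↥(T.A H a) => (⟨(e : G) • u, (e : G), (T.mem_A.1 e.2).1, rfl⟩ : ↥(T.O a u))) ?_
    intro e e' h
    have h' : (e : G) • u = (e' : G) • u := congrArg Subtype.val h
    have : (e' : G)⁻¹ * e = 1 :=
      hH.semireg hu (mul_mem (inv_mem e'.2) e.2) (by rw [mul_smul, h', inv_smul_smul])
    exact Subtype.ext (inv_mul_eq_one.1 this).symm
  have hge : (T.O a u).ncard ≤ Nat.card ↥(T.A H a) := by
    rw [T.ncard_O_eq hau hba.symm, ← Nat.card_coe_set_eq]
    have hw : ∀ w : ↥(T.O a b), ∃ n ∈ T.K a, n • b = (w : X) := fun w => w.2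
    choose ν hν hνb using hw
    refine Nat.card_le_card_of_injective
      (fun w => (⟨ν w * t * (ν w)⁻¹ * t⁻¹, hH.comm_mem hT ha (hν w) ht⟩ : ↥(T.A H a))) ?_
    intro w w' h
    have h' : ν w * t * (ν w)⁻¹ = ν w' * t * (ν w')⁻¹ := mul_right_cancel (congrArg Subtype.val h)
    have h2 := T.fixed_of_conj_eq (n := (ν w')⁻¹ * ν w) (T.mem_A.1 ht).1 ht1 (by
      calc (ν w')⁻¹ * ν w * t * ((ν w')⁻¹ * ν w)⁻¹ = (ν w')⁻¹ * (ν w * t * (ν w)⁻¹) * ν w' := by group
        _ = _ := by rw [h']; group)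
    rw [mul_smul, inv_smul_eq_iff, hνb, hνb] at h2
    exact Subtype.ext h2
  have hcard : Nat.card ↥(T.A H a) = (T.O a u).ncard := hle.antisymm hge
  refine ⟨hcard, ?_⟩
  have hsub : (fun e : G => e • u) '' (T.A H a : Set G) ⊆ T.O a u := by
    rintro _ ⟨e, he, rfl⟩
    exact ⟨e, (T.mem_A.1 he).1, rfl⟩
  have heq := Set.eq_of_subset_of_ncard_le hsub (by
    rw [Set.InjOn.ncard_image, ← Nat.card_coe_set_eq]
    · exact hcard.ge
    intro e he e' he' h
    exact (inv_mul_eq_one.1 (hH.semireg hu (mul_mem (inv_mem he') he) (by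
      rw [mul_smul]; exact inv_smul_eq_iff.2 h))).symm)
  intro z hz
  rw [← heq] at hz
  obtain ⟨e, he, rfl⟩ := hz
  exact ⟨e, he, rfl⟩

theorem IsTop.card_A_eq {H : Set X} (hH : T.IsTop H) {a x y : X} (ha : a ∈ H) (hxy : x ≠ y) :
    Nat.card ↥(T.A H a) = (T.O x y).ncard := by
  obtain ⟨u, hu⟩ := hH.exists_out
  rw [(hH.card_A hT ha hu).1]
  exact T.ncard_O_eq (fun e => hu (e ▸ ha)) hxy

theorem IsTop.commute_A {H : Set X} (_hH : T.IsTop H) {a b : X} (ha : a ∈ H) (hb : b ∈ H)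
    (hab : a ≠ b) {e f : G} (he : e ∈ T.A H a) (hf : f ∈ T.A H b) : e * f = f * e :=
  T.commute hab ⟨(T.mem_A.1 he).1, (T.mem_A.1 he).2 b hb⟩ ⟨(T.mem_A.1 hf).1, (T.mem_A.1 hf).2 a ha⟩

/-- The elements of a component of a line in `H` are products from two of its components. -/
theorem IsTop.split {H : Set X} (hH : T.IsTop H) {x y c : X} (hx : x ∈ H) (hy : y ∈ H) (hxy : x ≠ y)
    (hc : c ∈ T.L x y) {e : G} (he : e ∈ T.A H c) :
    ∃ s ∈ T.A H x, ∃ t ∈ T.A H y, e = s * t := by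
  rw [mem_A] at he
  obtain ⟨s, hs, t, ht, rfl⟩ := T.mem_W.1 (hc.2 e he.1 (he.2 x hx) (he.2 y hy))
  have hsfix : ∀ h ∈ H, s • h = h := by
    intro h hh
    rcases eq_or_ne x h with rfl | hxh
    · exact T.le _ s hs.1
    rcases eq_or_ne y h with rfl | hyh
    · exact hs.2
    by_contra hne
    have h1 : s • h ∈ T.L x h := hT.smul_L hxh hs.1 (T.right_mem_L x h)
    have h2 : s • h ∈ T.L y h := by
      have hmem := hT.smul_L hyh (inv_mem ht.1) (T.right_mem_L y h)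
      have hH' := hH.line_subset hT hy hh hyh hmem
      have e2 := he.2 _ hH'
      rw [mul_smul, smul_inv_smul] at e2
      rwa [e2]
    refine hne ?_
    have e1 := T.L_eq hxh h1 (T.right_mem_L x h) hne
    have e3 := T.L_eq hyh h2 (T.right_mem_L y h) hne
    have hyL : y ∈ T.L x h := e1 ▸ e3 ▸ T.left_mem_L y h
    have e4 := T.L_eq hxh (T.left_mem_L x h) hyL hxy
    exact (T.L_subset x y (e4 ▸ T.right_mem_L x h)) s hs
  refine ⟨s, T.mem_A.2 ⟨hs.1, hsfix⟩, t, T.mem_A.2 ⟨ht.1, fun h hh => ?_⟩, rfl⟩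
  have e2 := he.2 h hh
  have e3 : s⁻¹ • h = h := inv_smul_eq_iff.2 (hsfix h hh).symm
  rw [mul_smul, ← eq_inv_smul_iff, e3] at e2
  exact e2

/-- Every line in `H` is `x` together with an orbit, and its components cover the product. -/
theorem IsTop.line {H : Set X} (hH : T.IsTop H) {x y : X} (hx : x ∈ H) (hy : y ∈ H) (hxy : x ≠ y) :
    T.L x y = insert x (T.O x y) ∧
      ∀ s ∈ T.A H x, ∀ t ∈ T.A H y, ∃ c ∈ T.L x y, s * t ∈ T.A H c := by
  classical
  set q := (T.O x y).ncard with hq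
  have hq2 : 1 < q := T.one_lt_ncard_O hxy
  have hsub : insert x (T.O x y) ⊆ T.L x y := by
    rintro z (rfl | ⟨n, hn, rfl⟩)
    · exact T.left_mem_L _ y
    · exact hT.orbit_mem_L hxy hn
  have hxO : x ∉ T.O x y := by
    rintro ⟨n, hn, e⟩
    exact hxy (MulAction.injective n ((T.le x n hn).trans e.symm))
  have hins : (insert x (T.O x y)).ncard = q + 1 := by
    rw [Set.ncard_insert_of_notMem hxO]
  have hqq : q * q - 1 = (q + 1) * (q - 1) := by
    obtain ⟨k, hk⟩ : ∃ k, q = k + 1 := ⟨q - 1, by omega⟩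
    rw [hk, Nat.add_sub_cancel]
    exact Nat.sub_eq_of_eq_add (by ring)
  -- the components are disjoint and contained in the product
  haveI : Fintype ↥(T.L x y) := Fintype.ofFinite _
  let D := Σ c : ↥(T.L x y), {e : ↥(T.A H c) // e ≠ 1}
  let C := {p : ↥(T.A H x) × ↥(T.A H y) // p ≠ 1}
  have hDc : Nat.card D = (T.L x y).ncard * (q - 1) := by
    rw [Nat.card_sigma, Finset.sum_congr rfl (g := fun _ => q - 1) fun c _ => ?_, Finset.sum_const,
      smul_eq_mul, Finset.card_univ, ← Nat.card_eq_fintype_card, Nat.card_coe_set_eq]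
    haveI := Fintype.ofFinite ↥(T.A H c)
    rw [Nat.card_eq_fintype_card, Fintype.card_subtype_compl, Fintype.card_subtype_eq,
      ← Nat.card_eq_fintype_card, hH.card_A_eq hT (hH.line_subset hT hx hy hxy c.2) hxy]
  have hCc : Nat.card C = q * q - 1 := by
    haveI := Fintype.ofFinite (↥(T.A H x) × ↥(T.A H y))
    rw [Nat.card_eq_fintype_card, Fintype.card_subtype_compl, Fintype.card_subtype_eq,
      ← Nat.card_eq_fintype_card, Nat.card_prod, hH.card_A_eq hT hx hxy, hH.card_A_eq hT hy hxy]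
  have hspl : ∀ d : D, ∃ p : C, ((d.2 : ↥(T.A H d.1)) : G) = (p.1.1 : G) * (p.1.2 : G) := by
    rintro ⟨c, ⟨e, he⟩, h1⟩
    obtain ⟨s, hs, t, ht, e1⟩ := hH.split hT hx hy hxy c.2 he
    refine ⟨⟨(⟨s, hs⟩, ⟨t, ht⟩), fun h => h1 (Subtype.ext ?_)⟩, e1⟩
    rw [Prod.ext_iff, Subtype.ext_iff, Subtype.ext_iff] at h
    simp only [Prod.fst_one, Prod.snd_one, OneMemClass.coe_one] at h
    show e = 1
    rw [e1, h.1, h.2, one_mul]
  choose φ hφ using hspl
  have hinj : Function.Injective φ := by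
    rintro ⟨c, e, h1⟩ ⟨c', e', h1'⟩ h
    have he : (e : G) = e' := by
      have h2 := hφ ⟨c, e, h1⟩
      rw [h, ← hφ ⟨c', e', h1'⟩] at h2
      exact h2
    obtain rfl : c = c' := by
      by_contra hne
      exact h1 (Subtype.ext (T.ti c c' (fun e => hne (Subtype.ext e)) _ (T.mem_A.1 e.2).1
        (he ▸ (T.mem_A.1 e'.2).1)))
    congr
    exact Subtype.ext he
  have hcard := Nat.card_le_card_of_injective φ hinj
  rw [hDc, hCc, hqq] at hcard
  have hle : (T.L x y).ncard ≤ q + 1 := Nat.le_of_mul_le_mul_right hcard (by omega)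
  have hL : T.L x y = insert x (T.O x y) :=
    (Set.eq_of_subset_of_ncard_le hsub (hins ▸ hle)).symm
  refine ⟨hL, fun s hs t ht => ?_⟩
  by_cases h1 : s * t = 1
  · exact ⟨x, T.left_mem_L x y, h1 ▸ one_mem _⟩
  have hsurj : Function.Surjective φ := by
    refine ((Function.Injective.bijective_of_nat_card_le hinj) ?_).2
    rw [hDc, hCc, hL, hins, hqq]
  obtain ⟨d, hd⟩ := hsurj ⟨(⟨s, hs⟩, ⟨t, ht⟩), fun h => h1 (by
    rw [Prod.ext_iff, Subtype.ext_iff, Subtype.ext_iff] at h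
    simp only [Prod.fst_one, Prod.snd_one, OneMemClass.coe_one] at h
    rw [h.1, h.2, one_mul])⟩
  refine ⟨d.1, d.1.2, ?_⟩
  have := hφ d
  rw [hd] at this
  exact this ▸ (d.2 : ↥(T.A H d.1)).2

omit hT in
theorem Flat.L_eq_insert (hT : T.Flat) {x y : X} (hxy : x ≠ y) : T.L x y = insert x (T.O x y) := by
  obtain ⟨H, hH, hU⟩ := T.exists_top hxy
  exact (hH.line hT (hU (T.left_mem_U x y)) (hU (T.right_mem_U x y)) hxy).1

theorem Flat.exists_smul {x y z : X} (hxy : x ≠ y) (hz : z ∈ T.L x y) (hzx : z ≠ x) :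
    ∃ n ∈ T.K x, n • y = z := by
  rw [hT.L_eq_insert hxy] at hz
  exact hz.resolve_left hzx

theorem Flat.ncard_L {x y : X} (hxy : x ≠ y) : (T.L x y).ncard = (T.O x y).ncard + 1 := by
  rw [hT.L_eq_insert hxy, Set.ncard_insert_of_notMem]
  rintro ⟨n, hn, e⟩
  exact hxy (MulAction.injective n ((T.le x n hn).trans e.symm))

end Setting

end Cfsg.Agent.ONanTI
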